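import Mathlib
import Cfsg.Agent.Lib.Classical.OrthNineSpec.Coords
import Cfsg.Agent.Lib.Classical.QuadOrder

/-!
# Cyclic tori of the standard forms
-/

set_option autoImplicit false
set_option linter.all false

namespace CfsgLib.Classical.OrthNineSpec

open Matrix CfsgLib.Classical CfsgLib.Orth Cfsg.Geo

variable {F : Type*} [Field F] [Fintype F]

local notation "pol" => QuadraticMap.polar

/-- plus type: a cyclic torus of order `q ^ d - 1` -/
theorem exists_plus_torus {d : ℕ} (hd : 1 ≤ d) (h2 : (2 : F) ≠ 0) :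
    ∃ z : ↥(Cfsg.isometryGroup F (Cfsg.quadFormPlus d F)), orderOf z = Fintype.card F ^ d - 1 ∧
      isoEnd _ z ^ ((Fintype.card F ^ d - 1) / 2) = -1 ∧ (z.1 : Matrix (Fin d ⊕ Fin d) (Fin d ⊕ Fin d) F).det = 1 := by
  classical
  haveI : NeZero d := ⟨by omega⟩
  obtain ⟨p, hp⟩ := CharP.exists F
  haveI : Fact p.Prime := ⟨CharP.char_is_prime F p⟩
  let K := FiniteField.Extension F p d
  let bK := Module.finBasisOfFinrankEq F K (FiniteField.finrank_extension F p d)
  obtain ⟨u, hu⟩ := IsCyclic.exists_ofOrder_eq_natCard (α := Kˣ)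
  rw [Nat.card_units, FiniteField.natCard_extension, Nat.card_eq_fintype_card] at hu
  let A : GL (Fin d) F := Units.map (Algebra.leftMulMatrix bK).toMonoidHom u
  have hA : orderOf A = Fintype.card F ^ d - 1 := by
    rw [← hu]
    exact orderOf_injective _ (Units.map_injective (Algebra.leftMulMatrix_injective bK)) u
  obtain ⟨Z, hZ⟩ : ∃ Z : GL (Fin d ⊕ Fin d) F, ∀ v, (Z : Matrix (Fin d ⊕ Fin d) (Fin d ⊕ Fin d) F) *ᵥ v =
      Sum.elim ((A : Matrix (Fin d) (Fin d) F) *ᵥ (v ∘ Sum.inl)) (((A⁻¹ : GL (Fin d) F) : Matrix (Fin d) (Fin d) F)ᵀ *ᵥ (v ∘ Sum.inr)) ∧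
        (Z : Matrix (Fin d ⊕ Fin d) (Fin d ⊕ Fin d) F).det = 1 := by
    refine ⟨blockGL (A, ⟨((A⁻¹ : GL (Fin d) F) : Matrix _ _ F)ᵀ, (A : Matrix _ _ F)ᵀ,
      by rw [← Matrix.transpose_mul, Units.mul_inv, Matrix.transpose_one],
      by rw [← Matrix.transpose_mul, Units.inv_mul, Matrix.transpose_one]⟩), fun v => ⟨blockGL_mulVec _ _ v, ?_⟩⟩
    rw [blockGL_coe, Matrix.det_fromBlocks_zero₂₁, Matrix.det_transpose, ← Matrix.det_mul, Units.mul_inv, Matrix.det_one]
  have hmem : Z ∈ Cfsg.isometryGroup F (Cfsg.quadFormPlus d F) := CfsgLib.Classical.mem_isometryGroup_iff.2 fun v => by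
    rw [(hZ v).1]
    simp only [Cfsg.quadFormPlus, Sum.elim_inl, Sum.elim_inr]
    show ((A : Matrix (Fin d) (Fin d) F) *ᵥ (v ∘ Sum.inl)) ⬝ᵥ (((A⁻¹ : GL (Fin d) F) : Matrix (Fin d) (Fin d) F)ᵀ *ᵥ (v ∘ Sum.inr)) =
      (v ∘ Sum.inl) ⬝ᵥ (v ∘ Sum.inr)
    rw [Matrix.mulVec_transpose, dotProduct_comm, ← Matrix.dotProduct_mulVec, Matrix.mulVec_mulVec, Units.inv_mul,
      Matrix.one_mulVec, dotProduct_comm]
  obtain ⟨z, hz⟩ : ∃ z : ↥(Cfsg.isometryGroup F (Cfsg.quadFormPlus d F)), z = ⟨Z, hmem⟩ := ⟨_, rfl⟩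
  have hpow : ∀ i v, (isoEnd _ z ^ i) v = Sum.elim (((A ^ i : GL (Fin d) F) : Matrix (Fin d) (Fin d) F) *ᵥ (v ∘ Sum.inl))
      ((((A⁻¹) ^ i : GL (Fin d) F) : Matrix (Fin d) (Fin d) F)ᵀ *ᵥ (v ∘ Sum.inr)) := fun i => by
    induction i with
    | zero => intro v; funext x; rcases x with x | x <;> simp
    | succ i ih =>
      intro v
      rw [pow_succ', Module.End.mul_apply, ih, hz, isoEnd_apply, (hZ _).1, Sum.elim_comp_inl, Sum.elim_comp_inr,
        pow_succ' A, pow_succ A⁻¹, Units.val_mul, Units.val_mul, Matrix.transpose_mul, Matrix.mulVec_mulVec,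
        Matrix.mulVec_mulVec]
  have hzo : orderOf z = Fintype.card F ^ d - 1 := by
    rw [← hA, ← orderOf_isoEnd]
    refine orderOf_eq_orderOf_iff.2 fun i => ⟨fun h => ?_, fun h => LinearMap.ext fun v => ?_⟩
    · refine Units.ext (Matrix.ext_iff_mulVec.2 fun x => ?_)
      have h1 := congrArg (fun T : Module.End F (Fin d ⊕ Fin d → F) => T (Sum.elim x 0) ∘ Sum.inl) h
      simp only [hpow, Sum.elim_comp_inl, Module.End.one_apply] at h1
      rw [h1, Units.val_one, Matrix.one_mulVec]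
    · rw [hpow, h, inv_pow, h, inv_one, Units.val_one, Matrix.transpose_one, Matrix.one_mulVec, Matrix.one_mulVec]
      funext x; rcases x with x | x <;> rfl
  refine ⟨z, hzo, ?_, by rw [hz]; exact (hZ 0).2⟩
  have hodd : Odd (Fintype.card F) := by
    refine Nat.not_even_iff_odd.1 fun he => h2 ?_
    obtain ⟨n, hp', hn⟩ := FiniteField.card F p
    rw [hn, Nat.even_pow] at he
    have hp2 : p = 2 := hp'.even_iff.1 he.1
    subst hp2
    exact CharP.cast_eq_zero F 2
  have h1d : 1 < Fintype.card F ^ d := Nat.one_lt_pow (by omega) Fintype.one_lt_card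
  obtain ⟨t, ht⟩ : ∃ t, Fintype.card F ^ d - 1 = 2 * t := by
    obtain ⟨i, hi⟩ := hodd.pow (n := d)
    exact ⟨i, by omega⟩
  rw [ht, Nat.mul_div_cancel_left _ two_pos]
  have hut : (u : K) ^ t = -1 := by
    have hsq : ((u : K) ^ t) ^ 2 = 1 := by
      rw [← pow_mul, mul_comm, ← ht, ← hu, ← Units.val_pow_eq_pow_val, pow_orderOf_eq_one, Units.val_one]
    refine (sq_eq_one_iff.1 hsq).resolve_left fun h => ?_
    have h1 : orderOf u ∣ t := by rw [← orderOf_units]; exact orderOf_dvd_of_pow_eq_one h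
    rw [hu] at h1
    have := Nat.le_of_dvd (by omega) h1
    omega
  have hAt : ((A ^ t : GL (Fin d) F) : Matrix (Fin d) (Fin d) F) = -1 := by
    rw [← map_pow]
    show Algebra.leftMulMatrix bK ((u ^ t : Kˣ) : K) = -1
    rw [Units.val_pow_eq_pow_val, hut, map_neg, map_one]
  have hAt' : ((A⁻¹ ^ t : GL (Fin d) F) : Matrix (Fin d) (Fin d) F) = -1 := by
    have h := congrArg (fun M => ((A⁻¹ ^ t : GL (Fin d) F) : Matrix (Fin d) (Fin d) F) * M) hAt
    simp only [← Units.val_mul, inv_pow, inv_mul_cancel, Units.val_one, mul_neg, mul_one] at h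
    rw [inv_pow, h, neg_neg]
  refine LinearMap.ext fun v => ?_
  rw [hpow, hAt, hAt', Matrix.transpose_neg, Matrix.transpose_one]
  funext x; rcases x with x | x <;> simp [Matrix.neg_mulVec]

/-- minus type: a cyclic torus of order `q ^ (k + 1) + 1` -/
theorem exists_minus_torus {k : ℕ} (h2 : (2 : F) ≠ 0) {a b : F}
    (hab : ∀ z₁ z₂ : F, z₁ ^ 2 + a * z₁ * z₂ + b * z₂ ^ 2 = 0 → z₁ = 0 ∧ z₂ = 0) :
    ∃ z : ↥(Cfsg.isometryGroup F (Cfsg.quadFormMinus k F a b)), orderOf z = Fintype.card F ^ (k + 1) + 1 ∧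
      isoEnd _ z ^ ((Fintype.card F ^ (k + 1) + 1) / 2) = -1 ∧ ∀ v, isoEnd _ z v = v → v = 0 := by
  classical
  obtain ⟨q, hq⟩ : ∃ q, q = Fintype.card F := ⟨_, rfl⟩
  rw [← hq]
  have hq2 : 2 ≤ q := hq ▸ Fintype.one_lt_card
  haveI : NeZero (2 * (k + 1)) := ⟨by omega⟩
  obtain ⟨p, hp⟩ := CharP.exists F
  haveI : Fact p.Prime := ⟨CharP.char_is_prime F p⟩
  let K := FiniteField.Extension F p (2 * (k + 1))
  have hfin : Module.finrank F K = 2 * (k + 1) := FiniteField.finrank_extension F p (2 * (k + 1))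
  haveI : Finite K := Module.finite_of_finite F
  letI : Fintype K := Fintype.ofFinite K
  have hK : Fintype.card K = q ^ (2 * (k + 1)) := by rw [Module.card_eq_pow_finrank (K := F), hfin, hq]
  obtain ⟨Q, hQ⟩ : ∃ Q, Q = q ^ (k + 1) := ⟨_, rfl⟩
  have hQ2 : 2 ≤ Q := hQ ▸ le_trans hq2 (Nat.le_self_pow (by omega) q)
  have hKQ : Fintype.card K = Q * Q := by rw [hK, hQ, ← pow_add, two_mul]
  obtain ⟨σ, hσ0⟩ : ∃ σ : K →ₐ[F] K,
      σ = (FiniteField.frobeniusAlgEquivOfAlgebraic F K ^ (k + 1) : K ≃ₐ[F] K).toAlgHom := ⟨_, rfl⟩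
  have hσ : ∀ x : K, σ x = x ^ Q := fun x => by
    rw [hσ0]
    show (FiniteField.frobeniusAlgEquivOfAlgebraic F K ^ (k + 1) : K ≃ₐ[F] K) x = _
    rw [AlgEquiv.coe_pow, FiniteField.coe_frobeniusAlgEquivOfAlgebraic, pow_iterate, hQ, hq]
  have hσσ : ∀ x, σ (σ x) = x := fun x => by rw [hσ, hσ, ← pow_mul, ← hKQ, FiniteField.pow_card]
  have htr : ∀ x, Algebra.trace F K (σ x) = Algebra.trace F K x := fun x => by
    rw [hσ0]
    exact Algebra.trace_eq_of_algEquiv (FiniteField.frobeniusAlgEquivOfAlgebraic F K ^ (k + 1) : K ≃ₐ[F] K) x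
  obtain ⟨g, hg⟩ := IsCyclic.exists_ofOrder_eq_natCard (α := Kˣ)
  rw [Nat.card_units, Nat.card_eq_fintype_card, hKQ] at hg
  obtain ⟨c, hc⟩ : ∃ c : K, c + σ c = 1 := by
    obtain ⟨θ, hθ⟩ : ∃ θ : K, θ + σ θ ≠ 0 := by
      by_contra hcon
      push Not at hcon
      have h1 := hcon 1
      rw [map_one] at h1
      have h3 : σ (g : K) = (g : K) := by
        have h4 := hcon (g : K)
        linear_combination h4 - (g : K) * h1
      rw [hσ, ← Units.val_pow_eq_pow_val, ← Units.ext_iff] at h3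
      have h5 : g ^ (Q - 1) = 1 := mul_right_cancel (b := g) (by rw [← pow_succ, Nat.sub_add_cancel (by omega), h3, one_mul])
      have h6 := Nat.le_of_dvd (by omega) (orderOf_dvd_iff_pow_eq_one.2 h5)
      rw [hg] at h6
      have : 2 * Q ≤ Q * Q := Nat.mul_le_mul_right Q hQ2
      omega
    refine ⟨θ / (θ + σ θ), ?_⟩
    rw [map_div₀, map_add, hσσ, add_comm (σ θ) θ, ← add_div, div_self hθ]
  let B : LinearMap.BilinMap F K F := (Algebra.traceForm F K).compl₁₂ (LinearMap.mulLeft F c) σ.toLinearMap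
  obtain ⟨P, hP⟩ : ∃ P : QuadraticForm F K, P = B.toQuadraticMap := ⟨_, rfl⟩
  have hPx : ∀ x, P x = Algebra.trace F K (c * (x * σ x)) := fun x => by
    rw [hP]; simp [B, Algebra.traceForm_apply, mul_assoc]
  have hpol : ∀ x y : K, QuadraticMap.polar ⇑P x y = Algebra.trace F K (x * σ y) := fun x y => by
    simp only [QuadraticMap.polar, hPx, map_add, add_mul, mul_add]
    rw [← htr (c * (y * σ x)), map_mul σ, map_mul σ, hσσ]
    have h : Algebra.trace F K (c * (x * σ y)) + Algebra.trace F K (σ c * (σ y * x)) = Algebra.trace F K (x * σ y) := by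
      rw [← map_add]
      congr 1
      linear_combination (x * σ y) * hc
    linear_combination h
  have hPnd : (QuadraticMap.polarBilin P).Nondegenerate := by
    have key' : ∀ x : K, (∀ y, QuadraticMap.polar ⇑P x y = 0) → x = 0 := fun x hx =>
      (traceForm_nondegenerate F K).1 _ fun z => by
        have := hx (σ z)
        rw [hpol, hσσ] at this
        rwa [Algebra.traceForm_apply]
    exact ⟨key', fun y hy => key' y fun x => (QuadraticMap.polar_comm _ y x).trans (hy x)⟩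
  have hnorm : ∀ u : K, u ^ (Q + 1) = 1 → ∀ x, P (u * x) = P x := fun u hu x => by
    rw [hPx, hPx, map_mul σ, hσ u, mul_mul_mul_comm, ← pow_succ', hu, one_mul]
  obtain ⟨w, hw⟩ : ∃ w : Kˣ, orderOf w = Q + 1 := by
    refine ⟨_, orderOf_pow_orderOf_div (orderOf_pos g).ne' (hg ▸ ?_)⟩
    exact ⟨Q - 1, by rw [← Nat.sq_sub_sq, one_pow, sq]⟩
  have hwQ : (w : K) ^ (Q + 1) = 1 := by
    rw [← Units.val_pow_eq_pow_val, ← hw, pow_orderOf_eq_one, Units.val_one]
  have hw1 : (w : K) - 1 ≠ 0 := fun h => by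
    rw [sub_eq_zero, Units.val_eq_one] at h
    rw [h, orderOf_one] at hw
    omega
  -- the number of zeros
  obtain ⟨C, hC⟩ : ∃ C : Subgroup Kˣ, C = Subgroup.zpowers (g ^ (Q - 1)) := ⟨_, rfl⟩
  have hQQ : Q * Q - 1 = (Q + 1) * (Q - 1) := by rw [← Nat.sq_sub_sq, one_pow, sq]
  have hCo : orderOf (g ^ (Q - 1)) = Q + 1 := by
    rw [orderOf_pow, hg, Nat.gcd_eq_right ⟨Q + 1, by rw [hQQ, mul_comm]⟩, hQQ, Nat.mul_div_cancel _ (by omega)]
  have hzeros : ∃ s : ℕ, Nat.card {x : K // P x = 0} = 1 + (Q + 1) * s := by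
    obtain ⟨T, hT⟩ : ∃ T : Set (Kˣ ⧸ C), T = QuotientGroup.mk '' {u : Kˣ | P (u : K) = 0} := ⟨_, rfl⟩
    have hpre : (QuotientGroup.mk : Kˣ → Kˣ ⧸ C) ⁻¹' T = {u : Kˣ | P (u : K) = 0} := by
      refine Set.Subset.antisymm (fun u hu => ?_) (fun u hu => hT ▸ ⟨u, hu, rfl⟩)
      rw [Set.mem_preimage, hT] at hu
      obtain ⟨v, hv, hvu⟩ := hu
      rw [QuotientGroup.eq, hC] at hvu
      obtain ⟨j, hj⟩ := Subgroup.mem_zpowers_iff.1 hvu
      have hu1 : u = v * (g ^ (Q - 1)) ^ j := by rw [hj, mul_inv_cancel_left]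
      show P (u : K) = 0
      have hj1 : (((g ^ (Q - 1)) ^ j : Kˣ) : K) ^ (Q + 1) = 1 := by
        rw [← Units.val_pow_eq_pow_val, ← zpow_natCast, ← _root_.zpow_mul, mul_comm j, _root_.zpow_mul, zpow_natCast, ← hCo,
          pow_orderOf_eq_one, _root_.one_zpow, Units.val_one]
      refine Eq.trans ?_ hv
      refine Eq.trans (congrArg (fun y : K => P y) ?_) (hnorm _ hj1 _)
      rw [hu1, Units.val_mul, mul_comm]
    refine ⟨Nat.card T, ?_⟩
    have h1 : Nat.card {u : Kˣ // P (u : K) = 0} = (Q + 1) * Nat.card T := by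
      have h2 : Nat.card C = Q + 1 := by rw [hC, Nat.card_zpowers, hCo]
      have h := Nat.card_congr (QuotientGroup.preimageMkEquivSubgroupProdSet C T)
      rw [hpre, Nat.card_prod, h2] at h
      exact h
    have e : {x : K // P x = 0} ≃ Option {u : Kˣ // P (u : K) = 0} :=
      { toFun := fun x => if h : x.1 = 0 then none else some ⟨Units.mk0 x.1 h, x.2⟩
        invFun := fun o => o.elim ⟨0, map_zero P⟩ fun u => ⟨u.1, u.2⟩
        left_inv := fun x => by
          by_cases h : x.1 = 0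
          · simp [h, Subtype.ext_iff]
          · simp [h]
        right_inv := fun o => by
          rcases o with _ | u
          · simp
          · simp }
    rw [Nat.card_congr e, Finite.card_option, h1]; omega
  rcases CfsgLib.Orth.FieldCls.exists_even_normal P hPnd (k := k) hfin hab with ⟨L, hL, hLP⟩ | ⟨L, hL, hLP⟩
  · exfalso
    let Le := LinearMap.linearEquivOfInjective L hL (by
      rw [Module.finrank_fintype_fun_eq_card, Fintype.card_sum, Fintype.card_fin, hfin]; omega)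
    have hcard := CfsgLib.Classical.card_sing_plus (F := F) k
    rw [Nat.card_congr (Le.toEquiv.subtypeEquiv (p := fun v => Cfsg.quadFormPlus (k + 1) F v = 0)
      (q := fun x => P x = 0) fun v => by rw [← hLP]; exact Iff.rfl)] at hcard
    obtain ⟨s, hs⟩ := hzeros
    rw [hs, ← hq] at hcard
    push_cast at hcard
    rcases Nat.eq_zero_or_pos k with hk | hk
    · subst hk
      have hzero : Nat.card {x : K // P x = 0} = 1 := by
        rw [Nat.card_eq_one_iff_unique]
        refine ⟨⟨fun x y => Subtype.ext ?_⟩, ⟨⟨0, map_zero P⟩⟩⟩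
        have h0 : ∀ x : K, P x = 0 → x = 0 := fun x hx => by
          have htrz : ∀ z : K, algebraMap F K (Algebra.trace F K z) = z + σ z := fun z => by
            rw [FiniteField.algebraMap_trace_eq_sum_pow, hfin]
            simp [Finset.sum_range_succ, hσ, hQ, hq]
          have h := htrz (c * (x * σ x))
          rw [← hPx, hx, map_zero, map_mul σ, map_mul σ, hσσ, mul_comm (σ x) x, ← add_mul, hc, one_mul, eq_comm,
            mul_eq_zero, hσ, pow_eq_zero_iff (by omega), or_self] at h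
          exact h
        rw [h0 _ x.2, h0 _ y.2]
      have hs0 : s = 0 := by
        rcases Nat.eq_zero_or_pos s with h | h
        · exact h
        · have := Nat.mul_pos (show 0 < Q + 1 by omega) h; omega
      subst hs0
      simp only [Nat.cast_zero, mul_zero, add_zero, zero_add, pow_one, pow_zero] at hcard
      omega
    have hd : ((Q : ℤ) + 1) ∣ ((Q : ℤ) - 1) * ((q : ℤ) ^ k + 1) := ⟨(s : ℤ), by
      rw [hQ]; push_cast
      rw [hQ] at hcard
      push_cast at hcard
      rw [show 2 * k + 1 = (k + 1) + k by ring, pow_add] at hcard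
      linear_combination -hcard⟩
    have hd2 : (Q : ℤ) + 1 ∣ 2 * ((q : ℤ) ^ k + 1) := by
      have := dvd_sub (Dvd.intro ((q : ℤ) ^ k + 1) rfl : (Q : ℤ) + 1 ∣ ((Q : ℤ) + 1) * ((q : ℤ) ^ k + 1)) hd
      rwa [← sub_mul, add_sub_sub_cancel, one_add_one_eq_two] at this
    have hd3 : Q + 1 ∣ 2 * (q ^ k + 1) := by exact_mod_cast hd2
    have hQq : Q = q * q ^ k := by rw [hQ, pow_succ']
    rcases Nat.lt_or_ge 2 q with h | h
    · have := Nat.le_of_dvd (by positivity) hd3
      have h3 : 3 * q ^ k ≤ q * q ^ k := Nat.mul_le_mul_right _ h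
      have h4 : 3 ≤ q ^ k := le_trans h (Nat.le_self_pow hk.ne' q)
      omega
    · have hq' : q = 2 := by omega
      rw [hq'] at hd3 hQq
      have h5 := Nat.dvd_sub hd3 dvd_rfl
      rw [show 2 * (2 ^ k + 1) - (Q + 1) = 1 by omega, Nat.dvd_one] at h5
      omega
  · let Le := LinearMap.linearEquivOfInjective L hL (by
      rw [Module.finrank_fintype_fun_eq_card, Fintype.card_sum, Fintype.card_sum, Fintype.card_fin, Fintype.card_fin, hfin]
      omega)
    obtain ⟨f, hf⟩ : ∃ f : Module.End F (((Fin k ⊕ Fin k) ⊕ Fin 2) → F),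
        f = Le.symm.conj (LinearMap.mulLeft F (w : K)) := ⟨_, rfl⟩
    have hfapp : ∀ v, f v = Le.symm ((w : K) * Le v) := fun v => by rw [hf]; rfl
    have hfpow : ∀ (j : ℕ) v, (f ^ j) v = Le.symm ((w : K) ^ j * Le v) := fun j => by
      induction j with
      | zero => intro v; simp
      | succ j ih => intro v; rw [pow_succ', Module.End.mul_apply, ih, hfapp, Le.apply_symm_apply, pow_succ', mul_assoc]
    have hfo : orderOf f = Q + 1 := by
      rw [← hw, ← orderOf_units]
      refine orderOf_eq_orderOf_iff.2 fun j => ⟨fun h => ?_, fun h => LinearMap.ext fun v => by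
        rw [hfpow, h, one_mul, Le.symm_apply_apply]; rfl⟩
      have h1 := congrArg Le (LinearMap.congr_fun h (Le.symm 1))
      rw [hfpow, Module.End.one_apply, Le.apply_symm_apply, Le.apply_symm_apply, mul_one] at h1
      exact h1
    obtain ⟨z, hz⟩ := exists_iso (Q := Cfsg.quadFormMinus k F a b) f (fun v => by
      rw [← hLP, ← hLP]
      show P (Le (f v)) = P (Le v)
      rw [hfapp, Le.apply_symm_apply, hnorm _ hwQ])
      (IsUnit.of_pow_eq_one (pow_orderOf_eq_one f) (by rw [hfo]; omega))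
    refine ⟨z, by rw [← orderOf_isoEnd, hz, hfo, hQ], ?_, fun v hv => ?_⟩
    · rw [hz, ← hQ]
      have hev : 2 * ((Q + 1) / 2) = Q + 1 := by
        refine Nat.two_mul_div_two_of_even ?_
        rw [Nat.even_add_one, Nat.not_even_iff_odd, hQ, hq]
        refine Odd.pow ?_
        rcases Nat.even_or_odd (Fintype.card F) with he | he
        · exact absurd (by
            obtain ⟨t, ht⟩ := he
            have h := FiniteField.cast_card_eq_zero F
            rw [ht, ← two_mul, Nat.cast_mul, Nat.cast_ofNat, mul_eq_zero, or_iff_right h2] at h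
            obtain ⟨n, hp', hn⟩ := FiniteField.card F p
            have hpt : p ∣ t := (CharP.cast_eq_zero_iff F p t).1 h
            have hp2 : p = 2 := by
              have h2' : 2 ∣ p ^ (n : ℕ) := ⟨t, by rw [← hn, ht, two_mul]⟩
              exact ((Nat.prime_dvd_prime_iff_eq Nat.prime_two hp').1 (Nat.prime_two.dvd_of_dvd_pow h2')).symm
            subst hp2
            exact CharP.cast_eq_zero F 2) h2
        · exact he
      have hsq : ((w : K) ^ ((Q + 1) / 2)) ^ 2 = 1 := by rw [← pow_mul, show (Q + 1) / 2 * 2 = Q + 1 by omega, hwQ]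
      have hne : (w : K) ^ ((Q + 1) / 2) ≠ 1 := fun h => by
        have h1 : orderOf w ∣ (Q + 1) / 2 := by
          rw [← orderOf_units]; exact orderOf_dvd_of_pow_eq_one h
        have := Nat.le_of_dvd (by omega) h1
        omega
      refine LinearMap.ext fun v => ?_
      rw [hfpow, (sq_eq_one_iff.1 hsq).resolve_left hne, neg_one_mul, map_neg, Le.symm_apply_apply]
      rfl
    · rw [hz, hfapp, LinearEquiv.symm_apply_eq] at hv
      exact Le.map_eq_zero_iff.1 ((mul_eq_zero.1 (show ((w : K) - 1) * Le v = 0 by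
        rw [sub_mul, one_mul, hv, sub_self])).resolve_left hw1)

end CfsgLib.Classical.OrthNineSpec
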