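import Mathlib
import Cfsg.Agent.Lib.Classical.OrthNineSpec.Coords

/-!
# Moving element orders between `Ω(9)` and the natural semidirect product of `Ω⁻(8)`
-/

set_option autoImplicit false
set_option linter.all false

namespace CfsgLib.Classical.OrthNineSpec

open Matrix CfsgLib.Classical CfsgLib.Orth Cfsg.Geo CfsgLib.Perm.Elusive

variable {F : Type*} [Field F]

local notation "pol" => QuadraticMap.polar
local notation "I9" => Unit ⊕ (Fin 4 ⊕ Fin 4)
local notation "I8" => (Fin 3 ⊕ Fin 3) ⊕ Fin 2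
local notation "P9" => Cfsg.quadFormOdd 4 F
local notation "O9" => Cfsg.isometryGroup F (Cfsg.quadFormOdd 4 F)

/-- the geometric sum over the order is non-zero -/
def SumNe {V : Type*} [AddCommGroup V] [Module F V] (T : Module.End F V) : Prop :=
  (∑ i ∈ Finset.range (orderOf T), T ^ i) ≠ 0

/-- orders in the semidirect product -/
def RH (p : ℕ) (a b : F) (N : ℕ) : Prop :=
  ∃ x ∈ Cfsg.Omega F (Cfsg.quadFormMinus 3 F a b),
    N ∣ orderOf x ∨ (SumNe (isoEnd (Cfsg.quadFormMinus 3 F a b) x) ∧ N ∣ p * orderOf x)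

/-- orders in the nine dimensional group -/
def R9 (F : Type*) [Field F] (N : ℕ) : Prop :=
  ∃ z ∈ Cfsg.Omega F (Cfsg.quadFormOdd 4 F), N ∣ orderOf z

theorem lt_finrank {V : Type*} [AddCommGroup V] [Module F V] [FiniteDimensional F V] (N : Module.End F V)
    (hN : IsNilpotent N) {W : Submodule F V} (hW : ∀ w ∈ W, N w ∈ W) {k : ℕ} {w : V} (hw : w ∈ W) (h : (N ^ k) w ≠ 0) :
    k < Module.finrank F W := by
  by_contra hle
  obtain ⟨R, hR⟩ : ∃ R : Module.End F W, R = N.restrict hW := ⟨_, rfl⟩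
  have hRp : ∀ i (x : W), ((R ^ i) x : V) = (N ^ i) x := fun i => by
    induction i with
    | zero => intro x; rfl
    | succ i ih => intro x; rw [pow_succ', pow_succ', Module.End.mul_apply, Module.End.mul_apply, ← ih, hR]; rfl
  have hRn : IsNilpotent R := by
    obtain ⟨j, hj⟩ := hN
    exact ⟨j, LinearMap.ext fun x => Subtype.ext (by rw [hRp, hj]; rfl)⟩
  have h0 := LinearMap.aeval_self_charpoly R
  rw [hRn.charpoly_eq_X_pow_finrank, map_pow, Polynomial.aeval_X] at h0
  have h1 := hRp k ⟨w, hw⟩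
  rw [pow_eq_zero_of_le (by omega) h0] at h1
  exact h h1.symm

theorem isNilpotent_sub_one {V : Type*} [AddCommGroup V] [Module F V] [Nontrivial V] (p : ℕ) [Fact p.Prime]
    [CharP F p] {u : Module.End F V} {b : ℕ} (h : u ^ p ^ b = 1) : IsNilpotent (u - 1) :=
  ⟨p ^ b, by rw [sub_one_pow_char p u b, h, sub_self]⟩

theorem ker_invariant {V : Type*} [AddCommGroup V] [Module F V] {s u : Module.End F V} (h : Commute s u) (w : V)
    (hw : w ∈ LinearMap.ker (s - 1)) : u w ∈ LinearMap.ker (s - 1) := by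
  rw [LinearMap.mem_ker, LinearMap.sub_apply, Module.End.one_apply, sub_eq_zero] at hw ⊢
  rw [← Module.End.mul_apply, h.eq, Module.End.mul_apply, hw]

variable [Fintype F]

theorem even_moved {ι : Type} [Fintype ι] [DecidableEq ι] {Q : (ι → F) → F} (hQ : IsNondegenerateQuadraticForm Q)
    (hn : 2 ≤ Fintype.card ι) (h2 : (2 : F) ≠ 0) {z : ↥(Cfsg.isometryGroup F Q)} (hz : z ∈ Cfsg.Omega F Q) :
    Even (Module.finrank F (LinearMap.range (isoEnd Q z - 1))) := by
  have h := ((mem_omega_iff hQ hn (hex_of_two h2) z).1 hz).2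
  rwa [wrk, moved, show disp z.1 = -(isoEnd Q z - 1) from LinearMap.ext fun v => by
    rw [disp_apply, LinearMap.neg_apply, LinearMap.sub_apply, Module.End.one_apply, isoEnd_apply, neg_sub],
    LinearMap.range_neg] at h

theorem fixed_parity {ι : Type} [Fintype ι] [DecidableEq ι] {Q : (ι → F) → F} (hQ : IsNondegenerateQuadraticForm Q)
    (hn : 2 ≤ Fintype.card ι) (h2 : (2 : F) ≠ 0) {z : ↥(Cfsg.isometryGroup F Q)} (hz : z ∈ Cfsg.Omega F Q) :
    (Even (Module.finrank F (LinearMap.ker (isoEnd Q z - 1))) ↔ Even (Fintype.card ι)) := by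
  have h := LinearMap.finrank_range_add_finrank_ker (isoEnd Q z - 1)
  rw [Module.finrank_fintype_fun_eq_card] at h
  rw [← h, Nat.even_add]
  simp [even_moved hQ hn h2 hz]

variable (p : ℕ) [Fact p.Prime] [CharP F p] (h2 : (2 : F) ≠ 0) {a b : F}

include h2 in
theorem r9_of_rh (hp2 : p ≠ 2) (hd : dd a b ≠ 0) (hQ8 : IsNondegenerateQuadraticForm (Cfsg.quadFormMinus 3 F a b))
    (M : Emb a b) {N : ℕ} (h : RH p a b N) : R9 F N := by
  have hp := (Fact.out : p.Prime)
  obtain ⟨x, hx, h | ⟨hS, hN⟩⟩ := h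
  · exact ⟨M.E x, (M.omega x).2 hx, by rwa [orderOf_injective M.E M.inj]⟩
  obtain ⟨D⟩ := exists_split p (isoEnd (Cfsg.quadFormMinus 3 F a b) x)
    (by rw [orderOf_isoEnd]; exact orderOf_pos x)
  obtain ⟨k, hk⟩ := D.s_pow
  rw [← map_pow] at hk
  obtain ⟨zs, hzs⟩ : ∃ zs, zs = M.E (x ^ k) := ⟨_, rfl⟩
  have hsm : orderOf zs = D.m := by
    rw [hzs, orderOf_injective M.E M.inj, ← orderOf_isoEnd, ← hk, D.order_s]
  have hu : D.u ^ p ^ D.b = 1 := by have := pow_orderOf_eq_one D.u; rwa [D.order_u] at this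
  have hss : D.s ^ D.m = 1 := by have := pow_orderOf_eq_one D.s; rwa [D.order_s] at this
  have hm : (D.m : F) ≠ 0 := fun e => D.not_dvd ((CharP.cast_eq_zero_iff F p D.m).1 e)
  -- the fixed space in dimension eight
  obtain ⟨C, hC⟩ : ∃ C, C = LinearMap.ker (D.s - 1) := ⟨_, rfl⟩
  obtain ⟨y, hy⟩ : ∃ y, ((D.u - 1) ^ (p ^ D.b - 1) * avg D.s D.m) y ≠ 0 := by
    by_contra hall
    push Not at hall
    refine hS ?_
    rw [D.geom_sum, LinearMap.ext (g := (0 : Module.End F (I8 → F))) hall, smul_zero]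
  have hyC : avg D.s D.m y ∈ C := by
    rw [hC, LinearMap.mem_ker, LinearMap.sub_apply, Module.End.one_apply, avg_fixed hss, sub_self]
  have hlt := lt_finrank (D.u - 1) (isNilpotent_sub_one p hu) (W := C) (fun w hw => by
    rw [LinearMap.sub_apply, Module.End.one_apply]
    exact sub_mem (hC ▸ ker_invariant D.comm w (hC ▸ hw)) hw) hyC hy
  have hev : Even (Module.finrank F C) := by
    rw [hC, hk, fixed_parity hQ8 (by simp) h2 (Subgroup.pow_mem _ hx k)]
    simp [parity_simps]
  -- the fixed space in dimension nine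
  obtain ⟨C', hC'⟩ : ∃ C', C' = LinearMap.ker (isoEnd P9 zs - 1) := ⟨_, rfl⟩
  have hC'd : Module.finrank F C + 1 ≤ Module.finrank F C' := by
    let f : (C × F) →ₗ[F] C' :=
      (((M.L ∘ₗ C.subtype).coprod (LinearMap.toSpanSingleton F (I9 → F) M.v))).codRestrict C' (fun w => by
        have hw : isoEnd (Cfsg.quadFormMinus 3 F a b) (x ^ k) w.1 = w.1 := by
          have : (w.1 : I8 → F) ∈ LinearMap.ker (D.s - 1) := hC ▸ w.1.2
          simpa [sub_eq_zero, hk] using this
        rw [hC', LinearMap.mem_ker, LinearMap.sub_apply, Module.End.one_apply, sub_eq_zero, hzs]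
        simp only [LinearMap.coprod_apply, LinearMap.comp_apply, Submodule.subtype_apply,
          LinearMap.toSpanSingleton_apply, map_add, map_smul, M.map_L, M.fix, hw])
    have hf : Function.Injective f := by
      refine (injective_iff_map_eq_zero f).2 fun w hw => ?_
      have h1 : M.L w.1 + w.2 • M.v = 0 := congrArg Subtype.val hw
      have hr : w.2 = 0 := by
        have h3 := congrArg (fun t => pol (⇑(oddQ 4 F)) t M.v) h1
        simp only [QuadraticMap.polar_add_left, QuadraticMap.polar_smul_left, QuadraticMap.polar_zero_left,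
          QuadraticMap.polar_self] at h3
        simp only [oddQ_coe, M.val, (M.L_perp _).2 ⟨_, rfl⟩, zero_add, smul_eq_mul, nsmul_eq_mul,
          Nat.cast_ofNat, mul_eq_zero] at h3
        exact h3.resolve_right (not_or.2 ⟨h2, hd⟩)
      rw [hr, zero_smul, add_zero] at h1
      exact Prod.ext (Subtype.ext (M.L_inj (h1.trans (map_zero M.L).symm))) hr
    have := LinearMap.finrank_le_finrank_of_injective hf
    rwa [Module.finrank_prod, Module.finrank_self] at this
  have hpodd : Odd (p ^ D.b) := (hp.odd_of_ne_two hp2).pow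
  have hr : p ^ D.b + 2 ≤ Module.finrank F C' := by
    obtain ⟨i, hi⟩ := hev
    obtain ⟨j, hj⟩ := hpodd
    omega
  have hIs : ∀ v, (oddQ 4 F) (isoEnd P9 zs v) = oddQ 4 F v := fun v => by
    rw [oddQ_coe]; exact isoEnd_isom zs v
  have hzm : (isoEnd P9 zs) ^ D.m = 1 := by rw [← map_pow, ← hsm, pow_orderOf_eq_one, map_one]
  have hC'n : QNd (oddQ 4 F) C' := hC' ▸ fixed_qnd hzm hm (oddQ_nondeg h2 4) hIs
  obtain ⟨T, hTI, hTr, ⟨w, hwC, hw⟩, -, hcomm⟩ := exists_regular h2 hC'n (r := p ^ D.b + 2)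
    (hpodd.add_even even_two) hr
  have hne : (T - 1) ^ (p ^ D.b + 2 - 1) ≠ 0 := fun e => hw (by rw [e]; rfl)
  obtain ⟨j, hj, hjr⟩ := pow_prime_index p T hTr hne
  have hjb : D.b < j := by
    by_contra hle
    have := Nat.pow_le_pow_right hp.pos (Nat.le_of_not_lt hle)
    omega
  obtain ⟨zu, hzu⟩ := exists_iso (Q := P9) T (fun v => by rw [← oddQ_coe]; exact hTI v)
    (IsUnit.of_pow_eq_one (by rw [← hj]; exact pow_orderOf_eq_one T) (pow_ne_zero _ hp.ne_zero))
  have hou : orderOf zu = p ^ j := by rw [← orderOf_isoEnd, hzu, hj]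
  have hzc : Commute zs zu := isoEnd_injective P9 (by
    rw [map_mul, map_mul, hzu]
    exact hcomm _ hIs fun v hv => by rw [hC'] at hv; simpa [sub_eq_zero] using hv)
  have hΩs : zs ∈ Cfsg.Omega F P9 := hzs ▸ (M.omega _).2 (Subgroup.pow_mem _ hx k)
  have hΩu : zu ∈ Cfsg.Omega F P9 :=
    mem_omega_of_odd' (odd_nd h2 4) (by simp) zu (by rw [hou]; exact (hp.odd_of_ne_two hp2).pow)
  refine ⟨zs * zu, mul_mem hΩs hΩu, hN.trans ?_⟩
  rw [hzc.orderOf_mul_eq_mul_orderOf_of_coprime (by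
    rw [hsm, hou]; exact (((hp.coprime_iff_not_dvd).2 D.not_dvd).pow_left j).symm), hsm, hou,
    ← orderOf_isoEnd, D.order, ← mul_assoc, mul_comm p, mul_assoc, ← pow_succ']
  exact Nat.mul_dvd_mul_left _ (pow_dvd_pow p hjb)

include h2 in
theorem rh_of_fixing (hd : dd a b ≠ 0) (M : Emb a b) {z : ↥O9} (hz : z ∈ Cfsg.Omega F P9) {c : I9 → F}
    (hzc : isoEnd P9 z c = c) (hc : P9 c = dd a b) :
    ∃ x ∈ Cfsg.Omega F (Cfsg.quadFormMinus 3 F a b), orderOf x = orderOf z ∧
      ∀ y, pol P9 y c = 0 → (∑ i ∈ Finset.range (orderOf z), (isoEnd P9 z) ^ i) y ≠ 0 →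
        SumNe (isoEnd (Cfsg.quadFormMinus 3 F a b) x) := by
  obtain ⟨h, x, hx, hhc⟩ := exists_conj h2 M z hzc hc hd
  haveI : (Cfsg.Omega F P9).Normal := inferInstanceAs (commutator _).Normal
  have hord : orderOf x = orderOf z := by
    rw [← orderOf_injective M.E M.inj x, hx]
    exact (MulAut.conj h).orderOf_eq z
  refine ⟨x, (M.omega x).1 (hx ▸ Subgroup.Normal.conj_mem inferInstance z hz h), hord, fun y hy hne hzero => hne ?_⟩
  obtain ⟨w, hw⟩ := (M.L_perp (isoEnd P9 h y)).1 (by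
    rw [← hhc, QuadraticMap.polar, ← map_add, isoEnd_isom h, isoEnd_isom h, isoEnd_isom h]
    exact hy)
  have hi : ∀ i : ℕ, M.L (((isoEnd (Cfsg.quadFormMinus 3 F a b) x) ^ i) w) = isoEnd P9 h (((isoEnd P9 z) ^ i) y) := by
    intro i
    rw [← map_pow, ← M.map_L, map_pow, hx, hw, conj_pow, map_mul, map_mul, Module.End.mul_apply, Module.End.mul_apply,
      ← Module.End.mul_apply (isoEnd P9 h⁻¹), ← map_mul, inv_mul_cancel, map_one, Module.End.one_apply, map_pow]
  have h0 := congrArg (fun T => M.L (T w)) hzero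
  simp only [orderOf_isoEnd, hord, LinearMap.sum_apply, map_sum, hi, LinearMap.zero_apply, map_zero] at h0
  rw [← map_sum] at h0
  have h1 := congrArg (isoEnd P9 h⁻¹) h0
  rwa [← Module.End.mul_apply, ← map_mul, inv_mul_cancel, map_one, Module.End.one_apply, map_zero,
    ← LinearMap.sum_apply] at h1

include h2 in
theorem rh_of_class (hp2 : p ≠ 2) (hd : dd a b ≠ 0) (M : Emb a b) {z : ↥O9} (hz : z ∈ Cfsg.Omega F P9)
    (D : Split p (isoEnd P9 z)) {c : I9 → F} (hsc : D.s c = c) (hc : P9 c = dd a b) :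
    RH p a b (orderOf z) := by
  have hp := (Fact.out : p.Prime)
  obtain ⟨k, hk⟩ := D.s_pow
  rw [← map_pow] at hk
  have hsm : orderOf (z ^ k) = D.m := by rw [← orderOf_isoEnd, ← hk, D.order_s]
  have hss : D.s ^ D.m = 1 := by have := pow_orderOf_eq_one D.s; rwa [D.order_s] at this
  have hu : D.u ^ p ^ D.b = 1 := by have := pow_orderOf_eq_one D.u; rwa [D.order_u] at this
  have hm : (D.m : F) ≠ 0 := fun e => D.not_dvd ((CharP.cast_eq_zero_iff F p D.m).1 e)
  have hN : orderOf z = D.m * p ^ D.b := by rw [← orderOf_isoEnd, D.order]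
  have hIz : ∀ v, (oddQ 4 F) (isoEnd P9 z v) = oddQ 4 F v := fun v => by rw [oddQ_coe]; exact isoEnd_isom z v
  obtain ⟨hIs, hIu⟩ := D.isom hIz
  obtain ⟨C, hC⟩ : ∃ C, C = LinearMap.ker (D.s - 1) := ⟨_, rfl⟩
  have hCiff : ∀ v, v ∈ C ↔ D.s v = v := fun v => by rw [hC]; simp [sub_eq_zero]
  have hΩs : z ^ k ∈ Cfsg.Omega F P9 := Subgroup.pow_mem _ hz k
  -- finishing with a unipotent part commuting with the semisimple one
  have finish : ∀ (T : Module.End F (I9 → F)) (j : ℕ), (∀ v, oddQ 4 F (T v) = oddQ 4 F v) → orderOf T = p ^ j →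
      Commute D.s T → T c = c → ∃ g ∈ Cfsg.Omega F P9, isoEnd P9 g = D.s * T ∧ orderOf g = D.m * p ^ j ∧
        isoEnd P9 g c = c := by
    intro T j hTI hT hTc hTfix
    obtain ⟨zu, hzu⟩ := exists_iso (Q := P9) T (fun v => by rw [← oddQ_coe]; exact hTI v)
      (IsUnit.of_pow_eq_one (by rw [← hT]; exact pow_orderOf_eq_one T) (pow_ne_zero _ hp.ne_zero))
    have hou : orderOf zu = p ^ j := by rw [← orderOf_isoEnd, hzu, hT]
    have hco : Commute (z ^ k) zu := isoEnd_injective P9 (by rw [map_mul, map_mul, hzu, ← hk]; exact hTc)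
    refine ⟨z ^ k * zu, mul_mem hΩs (mem_omega_of_odd' (odd_nd h2 4) (by simp) zu
      (by rw [hou]; exact (hp.odd_of_ne_two hp2).pow)), by rw [map_mul, ← hk, hzu], ?_, ?_⟩
    · rw [hco.orderOf_mul_eq_mul_orderOf_of_coprime (by
        rw [hsm, hou]; exact (((hp.coprime_iff_not_dvd).2 D.not_dvd).pow_left j).symm), hsm, hou]
    · rw [map_mul, ← hk, hzu, Module.End.mul_apply, hTfix, hsc]
  by_cases hblock : 1 ≤ D.b ∧ (D.u - 1) ^ p ^ (D.b - 1) * avg D.s D.m ≠ 0
  · -- a long block in the fixed space: lose one step and gain it back from the module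
    obtain ⟨hb1, hne⟩ := hblock
    obtain ⟨r, hr⟩ : ∃ r, r = p ^ (D.b - 1) := ⟨_, rfl⟩
    rw [← hr] at hne
    have hrodd : Odd r := hr ▸ (hp.odd_of_ne_two hp2).pow
    have hbig : r + 1 ≤ Module.finrank F C := by
      obtain ⟨y, hy⟩ : ∃ y, ((D.u - 1) ^ r * avg D.s D.m) y ≠ 0 := by
        by_contra hall
        push Not at hall
        exact hne (LinearMap.ext hall)
      exact lt_finrank (D.u - 1) (isNilpotent_sub_one p hu) (W := C) (fun w hw => by
        rw [LinearMap.sub_apply, Module.End.one_apply]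
        exact sub_mem (hC ▸ ker_invariant D.comm w (hC ▸ hw)) hw) ((hCiff _).2 (avg_fixed hss y)) hy
    have hodd : Odd (Module.finrank F C) := by
      rw [← Nat.not_even_iff_odd, hC, hk, fixed_parity (odd_nd h2 4) (by simp) h2 hΩs]
      simp [parity_simps]
    obtain ⟨W, hW⟩ : ∃ W, W = C ⊓ (LinearMap.ker ((QuadraticMap.polarBilin (oddQ 4 F)).flip c)) := ⟨_, rfl⟩
    have hWiff : ∀ v, v ∈ W ↔ v ∈ C ∧ pol (⇑(oddQ 4 F)) v c = 0 := fun v => by
      rw [hW, Submodule.mem_inf, LinearMap.mem_ker]; rfl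
    have hcc : pol (⇑(oddQ 4 F)) c c = 2 * dd a b := by
      rw [QuadraticMap.polar_self, oddQ_coe, hc, nsmul_eq_mul, Nat.cast_ofNat]
    have hproj : ∀ v ∈ C, v - (pol (⇑(oddQ 4 F)) v c / (2 * dd a b)) • c ∈ W := fun v hv => by
      refine (hWiff _).2 ⟨sub_mem hv (Submodule.smul_mem _ _ ((hCiff c).2 hsc)), ?_⟩
      rw [QuadraticMap.polar_sub_left, QuadraticMap.polar_smul_left, hcc, smul_eq_mul,
        div_mul_cancel₀ _ (mul_ne_zero h2 hd), sub_self]
    have hWd : Module.finrank F C ≤ Module.finrank F W + 1 := by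
      have hle : C ≤ W ⊔ Submodule.span F {c} := fun v hv =>
        Submodule.mem_sup.2 ⟨_, hproj v hv, _, Submodule.smul_mem _ (pol (⇑(oddQ 4 F)) v c / (2 * dd a b))
          (Submodule.mem_span_singleton_self c), sub_add_cancel _ _⟩
      refine (Submodule.finrank_mono hle).trans ((Submodule.finrank_add_le_finrank_add_finrank _ _).trans ?_)
      exact Nat.add_le_add_left (finrank_span_le_card ({c} : Set (I9 → F)) |>.trans (by simp)) _
    have hWn : QNd (oddQ 4 F) W := by
      rw [qnd_iff]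
      intro x hx hx0
      have hCn : QNd (oddQ 4 F) C := hC ▸ fixed_qnd hss hm (oddQ_nondeg h2 4) hIs
      obtain ⟨v, hv, hxv⟩ := (qnd_iff _ _).1 hCn x ((hWiff x).1 hx).1 hx0
      refine ⟨_, hproj v hv, ?_⟩
      rwa [QuadraticMap.polar_sub_right, QuadraticMap.polar_smul_right, ((hWiff x).1 hx).2, smul_zero, sub_zero]
    obtain ⟨T, hTI, hTr, ⟨w, hwW, hw⟩, hTfix, hTcomm⟩ := exists_regular h2 hWn hrodd (by
      obtain ⟨i, hi⟩ := hodd
      obtain ⟨j, hj⟩ := hrodd
      omega)
    obtain ⟨j, hj, hjr⟩ := pow_prime_index p T hTr fun e => hw (by rw [e]; rfl)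
    have hTr1 : T ^ r = 1 := by
      have h1 := sub_one_pow_char p T (D.b - 1)
      rw [← hr, hTr, eq_comm, sub_eq_zero] at h1
      exact h1
    have hTord : orderOf T = p ^ (D.b - 1) := by
      have h1 := orderOf_dvd_of_pow_eq_one hTr1
      have h3 := Nat.le_of_dvd (by rw [hr]; exact pow_pos hp.pos _) h1
      rw [← hr]
      omega
    obtain ⟨g, hgΩ, hg, hgord, hgc⟩ := finish T (D.b - 1) hTI hTord (hTcomm D.s hIs fun v hv =>
      (hCiff v).1 ((hWiff v).1 hv).1) (hTfix c fun v hv => by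
      rw [QuadraticMap.polar_comm]; exact ((hWiff v).1 hv).2)
    obtain ⟨x, hxΩ, hxord, hxS⟩ := rh_of_fixing h2 hd M hgΩ hgc hc
    refine ⟨x, hxΩ, Or.inr ⟨hxS w (by rw [← oddQ_coe]; exact ((hWiff w).1 hwW).2) ?_, ?_⟩⟩
    · have hterm : ∀ i, ((isoEnd P9 g) ^ i) w = (T ^ i) w := fun i => by
        rw [hg, (hTcomm D.s hIs fun v hv => (hCiff v).1 ((hWiff v).1 hv).1).mul_pow]
        have hTi : ∀ i, D.s ((T ^ i) w) = (T ^ i) w := fun i => by
          induction i with
          | zero => exact (hCiff w).1 ((hWiff w).1 hwW).1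
          | succ i ih =>
            rw [pow_succ', Module.End.mul_apply]
            conv_rhs => rw [← ih]
            exact LinearMap.congr_fun (hTcomm D.s hIs fun v hv => (hCiff v).1 ((hWiff v).1 hv).1).eq _
        have hsi : ∀ l, (D.s ^ l) ((T ^ i) w) = (T ^ i) w := fun l => by
          induction l with
          | zero => rfl
          | succ l ih => rw [pow_succ', Module.End.mul_apply, ih, hTi]
        rw [Module.End.mul_apply, hsi]
      rw [LinearMap.sum_apply, Finset.sum_congr rfl fun i _ => hterm i, ← LinearMap.sum_apply, hgord,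
        sum_mul_period (by rw [← hr]; exact hTr1), sum_pow_prime_pow p, ← Nat.cast_smul_eq_nsmul F, LinearMap.smul_apply,
        ← hr]
      exact smul_ne_zero hm hw
    · rw [hxord, hgord, hN, ← mul_assoc, mul_comm p, mul_assoc, ← pow_succ', Nat.sub_add_cancel hb1]
  · -- the unipotent part moves only the complement
    obtain ⟨π, hπ⟩ : ∃ π, π = avg D.s D.m := ⟨_, rfl⟩
    have hππ : π * π = π := hπ ▸ avg_idem hss hm
    have huπ : Commute D.u π := hπ ▸ commute_avg D.comm.symm
    have hsπ : Commute D.s π := hπ ▸ commute_avg (Commute.refl _)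
    obtain ⟨T, hT⟩ : ∃ T, T = π + D.u * (1 - π) := ⟨_, rfl⟩
    have hTpow : ∀ i, T ^ i = π + D.u ^ i * (1 - π) := fun i => by
      induction i with
      | zero => rw [pow_zero, pow_zero, one_mul, add_sub_cancel]
      | succ i ih =>
        have e1 : π * (1 - π) = 0 := by rw [mul_sub, mul_one, hππ, sub_self]
        have e2 : (1 - π) * π = 0 := by rw [sub_mul, one_mul, hππ, sub_self]
        have e3 : (1 - π) * (1 - π) = 1 - π := by rw [mul_sub, mul_one, e2, sub_zero]
        have e4 : Commute D.u (1 - π) := (Commute.one_right _).sub_right huπ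
        rw [pow_succ, ih, hT, add_mul, mul_add, mul_add, hππ, ← mul_assoc π, ← huπ.eq, mul_assoc D.u π, e1, mul_zero,
          add_zero, mul_assoc _ (1 - π) π, e2, mul_zero, zero_add, ← mul_assoc (D.u ^ i * (1 - π)) D.u,
          mul_assoc (D.u ^ i) (1 - π) D.u, ← e4.eq, ← mul_assoc (D.u ^ i), ← pow_succ, mul_assoc, e3]
    have hTI : ∀ v, oddQ 4 F (T v) = oddQ 4 F v := fun v => by
      have hπv : D.s (π v) = π v := hπ ▸ avg_fixed hss v
      obtain ⟨y, hy⟩ : ∃ y, y = v - π v := ⟨_, rfl⟩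
      have hπy : π (D.u y) = 0 := by
        rw [← Module.End.mul_apply, ← huπ.eq, Module.End.mul_apply, hy, map_sub, ← Module.End.mul_apply π π, hππ, sub_self,
          map_zero]
      have ho : ∀ t, π t = 0 → pol (⇑(oddQ 4 F)) t (π v) = 0 := fun t ht => by
        have := pol_avg_left hss hm hIs t (π v) hπv
        rwa [← hπ, ht, sub_zero] at this
      have e1 : T v = D.u y + π v := by rw [hT, hy]; simp; abel
      have e2 : v = y + π v := by rw [hy]; abel
      rw [e1]
      conv_rhs => rw [e2]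
      rw [QuadraticMap.map_add (⇑(oddQ 4 F)), QuadraticMap.map_add (⇑(oddQ 4 F)), hIu, ho _ hπy,
        ho y (by rw [hy, map_sub, ← Module.End.mul_apply π π, hππ, sub_self])]
    have hTc : T c = c := by
      have hπc : π c = c := hπ ▸ avg_apply_of_fixed hm hsc
      rw [hT]
      simp [hπc]
    have hTord : orderOf T = p ^ D.b := by
      have hb : T ^ p ^ D.b = 1 := by rw [hTpow, hu, one_mul, add_sub_cancel]
      rcases Nat.eq_zero_or_pos D.b with h0 | h0
      · rw [h0, pow_zero] at hb ⊢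
        rw [pow_one] at hb
        rw [hb, orderOf_one]
      · obtain ⟨l, hl⟩ : ∃ l, D.b = l + 1 := ⟨D.b - 1, by omega⟩
        rw [hl] at hb ⊢
        refine orderOf_eq_prime_pow (fun e => ?_) hb
        have hzero : (D.u - 1) ^ p ^ l * π = 0 := by
          by_contra hne
          exact hblock ⟨h0, by rw [show D.b - 1 = l by omega, ← hπ]; exact hne⟩
        rw [sub_one_pow_char p, sub_mul, one_mul, sub_eq_zero] at hzero
        rw [hTpow, mul_sub, mul_one, hzero, ← add_sub_assoc, add_sub_cancel_left] at e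
        have h1 := orderOf_dvd_of_pow_eq_one e
        rw [D.order_u, hl, Nat.pow_dvd_pow_iff_le_right hp.one_lt] at h1
        omega
    have hco : Commute D.s T := by
      rw [hT]
      exact hsπ.add_right (D.comm.mul_right ((Commute.one_right _).sub_right hsπ))
    obtain ⟨g, hgΩ, -, hgord, hgc⟩ := finish T D.b hTI hTord hco hTc
    obtain ⟨x, hxΩ, hxord, -⟩ := rh_of_fixing h2 hd M hgΩ hgc hc
    exact ⟨x, hxΩ, Or.inl (by rw [hxord, hgord, hN])⟩

end CfsgLib.Classical.OrthNineSpec
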