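import Mathlib
import Cfsg.Agent.Lib.Classical.OrthNineSpec.Transfer
import Cfsg.Agent.Lib.Classical.OrthNineSpec.Tori
import Cfsg.Agent.Lib.Orth.Field.Base
import Cfsg.Agent.Lib.Orth.SemiInvol

/-!
# Block elements in Omega
-/

set_option autoImplicit false
set_option linter.all false

namespace CfsgLib.Classical.OrthNineSpec

open Matrix CfsgLib.Classical CfsgLib.Orth Cfsg.Geo CfsgLib.Perm.Elusive

variable {F : Type*} [Field F] [Fintype F]

local notation "pol" => QuadraticMap.polar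
local notation "P9" => Cfsg.quadFormOdd 4 F

theorem sqClass_eq (h2 : (2 : F) ≠ 0) {x y : SqClass F} (hx : x ≠ 1) (hy : y ≠ 1) : x = y := by
  classical
  have h := card_sqClass_odd (F := F) h2
  obtain ⟨u, v, huv, hu⟩ := Nat.card_eq_two_iff.1 h
  have hall : ∀ z : SqClass F, z = u ∨ z = v := fun z => by
    have := hu.symm ▸ Set.mem_univ z
    simpa using this
  rcases hall x with e1 | e1 <;> rcases hall y with e2 | e2 <;> rcases hall 1 with e3 | e3 <;> simp_all

/-- spinor norm of minus the identity -/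
theorem spn_neg_one {ι : Type} [Fintype ι] [DecidableEq ι] (h2 : (2 : F) ≠ 0) {Q : (ι → F) → F}
    (hQ : IsNondegenerateQuadraticForm Q) {e : ℕ} (he : Fintype.card ι = 2 * e) {D : F} (hD0 : D ≠ 0)
    (hD : (Matrix.of fun i j => pol Q (Pi.single i 1) (Pi.single j 1) : Matrix ι ι F).det = D)
    (z : ↥(Cfsg.isometryGroup F Q)) (hz : isoEnd Q z = -1) : spn Q z.1 = sqc D := by
  classical
  obtain ⟨σ, -⟩ : ∃ σ : Fin (2 * e) ≃ ι, True := ⟨(finCongr he.symm).trans (Fintype.equivFin ι).symm, trivial⟩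
  obtain ⟨w, hw⟩ : ∃ w : Fin (2 * e) → ι → F, w = fun i => Pi.single (σ i) (1 : F) := ⟨_, rfl⟩
  have hzv : ∀ v, (z.1 : Matrix ι ι F) *ᵥ v = -v := fun v => by rw [← isoEnd_apply, hz]; rfl
  obtain ⟨-, h⟩ := spn_of_negating hQ h2 z.2 (w := w)
    (by rw [hw]; exact (Pi.basisFun F ι).linearIndependent.comp σ σ.injective |> fun h => by simpa [Function.comp_def] using h)
    (fun i => hzv _)
    (fun x => by
      have hs : Submodule.span F (Set.range w) = ⊤ := by
        rw [hw, show (fun i => Pi.single (σ i) (1 : F)) = (fun j : ι => (Pi.single j 1 : ι → F)) ∘ σ from rfl,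
          Set.range_comp, σ.range_eq_univ, Set.image_univ]
        convert (Pi.basisFun F ι).span_eq using 3
        funext j
        simp
      rw [hs]; exact Submodule.mem_top)
  rw [h, show (Matrix.of fun i j => pol Q (w i) (w j)) =
      (Matrix.of fun i j => pol Q (Pi.single i 1) (Pi.single j 1) : Matrix ι ι F).submatrix σ σ by
    ext i j; simp [hw], Matrix.det_submatrix_equiv_self, hD]
  rw [show (2 : F) ^ (2 * e) * D = 2 ^ e * D * 2 ^ e by rw [two_mul, pow_add]; ring]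
  exact sqc_sq_mul (pow_ne_zero _ h2) hD0

theorem spn_pow_odd {ι : Type} [Fintype ι] [DecidableEq ι] (h2 : (2 : F) ≠ 0) {Q : (ι → F) → F}
    (hQ : IsNondegenerateQuadraticForm Q) (z : ↥(Cfsg.isometryGroup F Q)) (t : ℕ) (h : spn Q z.1 = 1) :
    spn Q (z ^ t).1 = 1 := by
  show spnHom hQ (hex_of_two h2) (z ^ t) = 1
  rw [map_pow, show spnHom hQ (hex_of_two h2) z = 1 from h, one_pow]

/-- torus elements as used below -/
structure Blk {α : Type} [Fintype α] [DecidableEq α] (Q : (α → F) → F) (t : ℕ) (odd : Prop) where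
  z : ↥(Cfsg.isometryGroup F Q)
  order : orderOf z = t
  ev : Even (wrk z.1)
  out : odd → spn Q z.1 ≠ 1

theorem odd_card (h2 : (2 : F) ≠ 0) : Odd (Fintype.card F) := by
  refine Nat.not_even_iff_odd.1 fun he => h2 ?_
  obtain ⟨p, hp⟩ := CharP.exists F
  obtain ⟨n, hp', hn⟩ := FiniteField.card F p
  rw [hn, Nat.even_pow] at he
  have hp2 : p = 2 := hp'.even_iff.1 he.1
  subst hp2
  exact CharP.cast_eq_zero F 2

theorem neg_one_not_square (h2 : (2 : F) ≠ 0) (h : Fintype.card F % 4 = 3) : ¬ IsSquare (-1 : F) := by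
  rw [FiniteField.isSquare_neg_one_iff]; simpa using h

theorem blk_plus (h2 : (2 : F) ≠ 0) {e : ℕ} (he : 1 ≤ e) :
    Nonempty (Blk (Cfsg.quadFormPlus e F) (Fintype.card F ^ e - 1) (Odd e ∧ Fintype.card F % 4 = 3)) := by
  obtain ⟨z, hz, hneg, hdet⟩ := exists_plus_torus (F := F) he h2
  have hQ : IsNondegenerateQuadraticForm (Cfsg.quadFormPlus e F) :=
    plusQ_coe (F := F) e ▸ nd_of_qf _ (plusQ_nondeg e)
  refine ⟨⟨z, hz, (det_eq_one_iff hQ h2 z.2).1 hdet, fun ⟨hodd, hq⟩ h1 => ?_⟩⟩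
  have hgram : (Matrix.of fun i j => pol (Cfsg.quadFormPlus e F) (Pi.single i 1) (Pi.single j 1) :
      Matrix (Fin e ⊕ Fin e) (Fin e ⊕ Fin e) F).det = (-1) ^ e := by
    have h : (Matrix.of fun i j => pol (Cfsg.quadFormPlus e F) (Pi.single i 1) (Pi.single j 1) :
      Matrix (Fin e ⊕ Fin e) (Fin e ⊕ Fin e) F) =
      Matrix.fromBlocks (0 : Matrix (Fin e) (Fin e) F) (1 : Matrix (Fin e) (Fin e) F) (1 : Matrix (Fin e) (Fin e) F) 0 := by
      ext i j
      rcases i with i | i <;> rcases j with j | j <;>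
        simp [QuadraticMap.polar, Cfsg.quadFormPlus, Pi.single_apply, Matrix.one_apply, add_mul, mul_add,
          Finset.sum_add_distrib, eq_comm]
    rw [h, det_swapBlocks, Fintype.card_fin]
  rw [hodd.neg_one_pow] at hgram
  have h := spn_neg_one h2 hQ (e := e) (by simp; ring) (neg_ne_zero.2 one_ne_zero) hgram
    (z ^ ((Fintype.card F ^ e - 1) / 2)) (by rw [map_pow, hneg])
  rw [spn_pow_odd h2 hQ z _ h1] at h
  exact neg_one_not_square h2 hq ((sqc_eq_one_iff (neg_ne_zero.2 one_ne_zero)).1 h.symm)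

theorem blk_minus (h2 : (2 : F) ≠ 0) {k : ℕ} {a b : F}
    (hab : ∀ z₁ z₂ : F, z₁ ^ 2 + a * z₁ * z₂ + b * z₂ ^ 2 = 0 → z₁ = 0 ∧ z₂ = 0) :
    Nonempty (Blk (Cfsg.quadFormMinus k F a b) (Fintype.card F ^ (k + 1) + 1) (Odd k ∨ Fintype.card F % 4 = 1)) := by
  obtain ⟨z, hz, hneg, hfix⟩ := exists_minus_torus (k := k) h2 hab
  have hQ := minus_nd hab k
  refine ⟨⟨z, hz, ?_, fun hor h1 => ?_⟩⟩
  · have hw : wrk z.1 = 2 * (k + 1) := by
      have hinj : Function.Injective (disp z.1) := by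
        refine (injective_iff_map_eq_zero _).2 fun v hv => hfix v ?_
        rw [disp_apply, sub_eq_zero] at hv
        rw [isoEnd_apply]; exact hv.symm
      rw [wrk, moved, LinearMap.finrank_range_of_inj hinj, Module.finrank_fintype_fun_eq_card]
      simp; ring
    exact ⟨k + 1, by omega⟩
  have hgram := gram_det_minus (F := F) (m := k) a b
  have hns : ¬ IsSquare ((-1 : F) ^ k * (4 * b - a ^ 2)) := by
    have hD : ¬ IsSquare (a ^ 2 - 4 * b) := by
      rintro ⟨t, ht⟩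
      refine h2 ((hab (t - a) 2 ?_).2)
      linear_combination -ht
    intro hsq
    by_cases hk : Odd k
    · rw [hk.neg_one_pow, neg_one_mul, neg_sub] at hsq
      exact hD hsq
    · have h1' : IsSquare (-1 : F) := by
        rw [FiniteField.isSquare_neg_one_iff, hor.resolve_left hk]; decide
      rw [(Nat.not_odd_iff_even.1 hk).neg_one_pow, one_mul] at hsq
      have := h1'.mul hsq
      rw [neg_one_mul, neg_sub] at this
      exact hD this
  have h0 : ((-1 : F) ^ k * (4 * b - a ^ 2)) ≠ 0 := fun e => hns (e ▸ IsSquare.zero)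
  have h := spn_neg_one h2 hQ (e := k + 1) (by simp; ring) h0 hgram
    (z ^ ((Fintype.card F ^ (k + 1) + 1) / 2)) (by rw [map_pow, hneg])
  rw [spn_pow_odd h2 hQ z _ h1] at h
  exact hns ((sqc_eq_one_iff h0).1 h.symm)

/-- two blocks, one outside the kernel of the spinor norm with half order odd -/
theorem exists_pair {α β : Type} [Fintype α] [DecidableEq α] [Fintype β] [DecidableEq β] (h2 : (2 : F) ≠ 0)
    {Q₁ : (α → F) → F} {Q₂ : (β → F) → F} (h₁ : IsNondegenerateQuadraticForm Q₁) (h₂ : IsNondegenerateQuadraticForm Q₂)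
    (hn : 2 ≤ Fintype.card (α ⊕ β)) {t₁ t₂ : ℕ} {o₁ o₂ : Prop} (A : Blk Q₁ t₁ o₁) (B : Blk Q₂ t₂ o₂)
    (e₁ : 2 ∣ t₁) (e₂ : 2 ∣ t₂) (h : (o₁ ∧ Odd (t₁ / 2)) ∨ (o₂ ∧ Odd (t₂ / 2))) :
    ∃ y ∈ Cfsg.Omega F (sumForm Q₁ Q₂), orderOf y = Nat.lcm t₁ t₂ := by
  have hinj : Function.Injective (blockIso Q₁ Q₂) := fun x y e => by
    have e' : ∀ v, (blockGL (x.1.1, x.2.1) : Matrix (α ⊕ β) (α ⊕ β) F) *ᵥ v =
        (blockGL (y.1.1, y.2.1) : Matrix (α ⊕ β) (α ⊕ β) F) *ᵥ v := fun v =>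
      congrArg (fun g : ↥(Cfsg.isometryGroup F (sumForm Q₁ Q₂)) => (g.1 : Matrix (α ⊕ β) (α ⊕ β) F) *ᵥ v) e
    refine Prod.ext (Subtype.ext (Units.ext (Matrix.ext_iff_mulVec.2 fun v => ?_))) (Subtype.ext (Units.ext (Matrix.ext_iff_mulVec.2 fun v => ?_)))
    · have h := congrArg (fun f => f ∘ Sum.inl) (e' (Sum.elim v 0))
      simpa [blockGL_mulVec] using h
    · have h := congrArg (fun f => f ∘ Sum.inr) (e' (Sum.elim 0 v))
      simpa [blockGL_mulVec] using h
  have hordpair : ∀ x y, orderOf (blockIso Q₁ Q₂ (x, y)) = Nat.lcm (orderOf x) (orderOf y) := fun x y => by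
    rw [orderOf_injective _ hinj, Prod.orderOf]
  have hmem : ∀ x y, spn Q₁ x.1 * spn Q₂ y.1 = 1 → Even (wrk x.1) → Even (wrk y.1) →
      blockIso Q₁ Q₂ (x, y) ∈ Cfsg.Omega F (sumForm Q₁ Q₂) := fun x y hs hx hy => by
    rw [mem_omega_iff (sumForm_nd h₁ h₂) hn (hex_of_two h2), (spn_block h2 h₁ h₂ x y).1, (spn_block h2 h₁ h₂ x y).2]
    exact ⟨hs, iff_of_true hx hy⟩
  have hsq : ∀ {γ : Type} [Fintype γ] [DecidableEq γ] {R : (γ → F) → F}, IsNondegenerateQuadraticForm R →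
      ∀ x : ↥(Cfsg.isometryGroup F R), spn R (x ^ 2).1 = 1 ∧ Even (wrk (x ^ 2).1) := by
    intro γ _ _ R hR x
    constructor
    · show spnHom hR (hex_of_two h2) (x ^ 2) = 1
      rw [map_pow]
      by_cases h' : spnHom hR (hex_of_two h2) x = 1
      · rw [h', one_pow]
      · by_contra hne
        have h3 := sqClass_eq h2 hne h'
        rw [pow_two, mul_eq_left] at h3
        exact h' h3
    · refine (parHom_eq_one_iff hR (hex_of_two h2) (x ^ 2)).1 ?_
      rw [map_pow, pow_two]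
      exact (show ∀ t : Multiplicative (ZMod 2), t * t = 1 by decide) _
  have hhalf : ∀ {t s : ℕ}, 2 ∣ t → 2 ∣ s → Odd (t / 2) → Nat.lcm (t / 2) s = Nat.lcm t s := by
    intro t s ht hs hodd
    refine Nat.dvd_antisymm (Nat.lcm_dvd ((Nat.div_dvd_of_dvd ht).trans (Nat.dvd_lcm_left _ _)) (Nat.dvd_lcm_right _ _))
      (Nat.lcm_dvd ?_ (Nat.dvd_lcm_right _ _))
    rw [show t = 2 * (t / 2) from (Nat.mul_div_cancel' ht).symm]
    exact Nat.Coprime.mul_dvd_of_dvd_of_dvd (Nat.coprime_two_left.2 hodd) (hs.trans (Nat.dvd_lcm_right _ _))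
      (by rw [← show t = 2 * (t / 2) from (Nat.mul_div_cancel' ht).symm]; exact Nat.dvd_lcm_left _ _)
  by_cases hboth : spn Q₁ A.z.1 * spn Q₂ B.z.1 = 1
  · exact ⟨_, hmem _ _ hboth A.ev B.ev, by rw [hordpair, A.order, B.order]⟩
  rcases h with ⟨ho, hodd⟩ | ⟨ho, hodd⟩
  · have hb : spn Q₂ B.z.1 = 1 := by
      by_contra hne
      refine hboth ?_
      rw [← sqClass_eq h2 (A.out ho) hne]
      have h1 := (hsq h₁ A.z).1
      rw [show spn Q₁ (A.z ^ 2).1 = spnHom h₁ (hex_of_two h2) (A.z ^ 2) from rfl, map_pow, pow_two] at h1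
      exact h1
    refine ⟨_, hmem (A.z ^ 2) B.z (by rw [(hsq h₁ _).1, hb, one_mul]) (hsq h₁ _).2 B.ev, ?_⟩
    rw [hordpair, B.order, orderOf_pow' A.z two_ne_zero, A.order, Nat.gcd_eq_right e₁, hhalf e₁ e₂ hodd]
  · have ha : spn Q₁ A.z.1 = 1 := by
      by_contra hne
      refine hboth ?_
      rw [sqClass_eq h2 hne (B.out ho)]
      have h1 := (hsq h₂ B.z).1
      rw [show spn Q₂ (B.z ^ 2).1 = spnHom h₂ (hex_of_two h2) (B.z ^ 2) from rfl, map_pow, pow_two] at h1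
      exact h1
    refine ⟨_, hmem A.z (B.z ^ 2) (by rw [(hsq h₂ _).1, ha, one_mul]) A.ev (hsq h₂ _).2, ?_⟩
    rw [hordpair, A.order, orderOf_pow' B.z two_ne_zero, B.order, Nat.gcd_eq_right e₂, Nat.lcm_comm,
      hhalf e₂ e₁ hodd, Nat.lcm_comm]

end CfsgLib.Classical.OrthNineSpec
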