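import Mathlib
import Cfsg.Agent.Lib.Classical.RootOrbits

/-!
# Frobenius orbits of eigenvalues closed under inversion, in any characteristic
-/

set_option autoImplicit false
set_option linter.all false

namespace CfsgLib.Classical.OrthNineSpec

open Polynomial Matrix CfsgLib.Classical.RootOrbits

variable {F : Type*} [Field F] [Fintype F]

local notation "q" => Fintype.card F
local notation "K" => AlgebraicClosure F

theorem frob_iter_injective (i : ℕ) : Function.Injective fun b : K => b ^ q ^ i := by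
  induction i with
  | zero => intro a b h; simpa using h
  | succ i ih =>
    intro a b h
    simp only [pow_succ, pow_mul] at h
    exact ih (frob_injective h)

theorem self_inv {a : K} (ha : a ≠ 0) (h : a = a⁻¹) : a = 1 ∨ a = -1 := by
  refine mul_self_eq_one_iff.1 ?_
  conv_lhs => arg 2; rw [h]
  exact mul_inv_cancel₀ ha

theorem pow_of_dvd {a : K} {n N : ℕ} (h : n ∣ N) (ha : a ^ n = 1) : a ^ N = 1 := by
  obtain ⟨c, rfl⟩ := h
  rw [pow_mul, ha, one_pow]

/-- the data of the orbit of an eigenvalue -/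
structure OrbData [DecidableEq K] {ι : Type*} [Fintype ι] [DecidableEq ι] (M : Matrix ι ι F) (a : K) (d : ℕ)
    (O : Finset K) : Prop where
  one_le : 1 ≤ d
  sign : a ^ q ^ d = a ∨ a ^ q ^ d = a⁻¹
  card : O.card = 2 * d
  self_mem : a ∈ O
  count : ∀ x ∈ O, (eig M).count x = (eig M).count a
  conj : ∀ x ∈ O, Conj' a x
  pow : ∀ x ∈ O, ∀ N : ℕ, a ^ N = 1 → x ^ N = 1
  class_eq : ∀ b : K, b ≠ 0 → ∀ i, (b ^ q ^ i ∈ O ∨ (b ^ q ^ i)⁻¹ ∈ O) → (∃ P, 0 < P ∧ b ^ q ^ P = b) → b ∈ O

theorem exists_orbData [DecidableEq K] {ι : Type*} [Fintype ι] [DecidableEq ι] (M : Matrix ι ι F)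
    (hinv : (eig M).map (·⁻¹) = eig M) {a : K} (ha : a ∈ eig M) (ha0 : a ≠ 0) (ha1 : a ≠ 1) (ha2 : a ≠ -1) :
    ∃ d O, OrbData M a d O := by
  classical
  have hex : ∃ d, 1 ≤ d ∧ (a ^ q ^ d = a ∨ a ^ q ^ d = a⁻¹) := by
    obtain ⟨P, hP, h⟩ := frob_periodic M ha
    exact ⟨P, hP, Or.inl h⟩
  obtain ⟨d, hd⟩ : ∃ d, d = Nat.find hex := ⟨_, rfl⟩
  obtain ⟨hd1, hsign⟩ := hd ▸ Nat.find_spec hex
  have hmin : ∀ i, 1 ≤ i → i < d → a ^ q ^ i ≠ a ∧ a ^ q ^ i ≠ a⁻¹ := fun i h1 h2 => by
    have := Nat.find_min hex (m := i) (hd ▸ h2)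
    simp only [h1, true_and, not_or] at this
    exact this
  have hstep : ∀ i, (a ^ q ^ i) ^ q = a ^ q ^ (i + 1) := fun i => by rw [← pow_mul, ← pow_succ]
  -- cancel Frobenius
  have hcancel : ∀ i k : ℕ, a ^ q ^ (i + k) = (a ^ q ^ k) ^ q ^ i := fun i k => by
    rw [← pow_mul, ← pow_add, add_comm]
  have hmemO : ∀ i, a ^ q ^ i ∈ orb' a d ∧ (a ^ q ^ i)⁻¹ ∈ orb' a d := by
    have hlt : ∀ i, i < d → a ^ q ^ i ∈ orb' a d ∧ (a ^ q ^ i)⁻¹ ∈ orb' a d := fun i hi => by
      have h1 : a ^ q ^ i ∈ orb a d := Finset.mem_image.2 ⟨i, Finset.mem_range.2 hi, rfl⟩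
      exact ⟨Finset.mem_union_left _ h1, Finset.mem_union_right _ (Finset.mem_image.2 ⟨_, h1, rfl⟩)⟩
    intro i
    induction i using Nat.strong_induction_on with
    | _ i ih =>
      rcases Nat.lt_or_ge i d with h | h
      · exact hlt i h
      obtain ⟨j, rfl⟩ : ∃ j, i = j + d := ⟨i - d, by omega⟩
      obtain ⟨h1, h2⟩ := ih j (by omega)
      rcases hsign with h3 | h3
      · rw [hcancel, h3]; exact ⟨h1, h2⟩
      · rw [hcancel, h3, inv_pow, inv_inv]; exact ⟨h2, h1⟩
  refine ⟨d, orb' a d, hd1, hsign, ?_, ?_, fun x hx => count_orb' M hinv hx, fun x hx => mem_orb' hx, ?_, ?_⟩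
  · have hinjO : Set.InjOn (fun i => a ^ q ^ i) (Finset.range d : Set ℕ) := by
      intro i hi j hj h
      simp only [Finset.coe_range, Set.mem_Iio] at hi hj
      simp only at h
      by_contra hne
      rcases Nat.lt_or_ge i j with hij | hij
      · rw [show j = i + (j - i) by omega, hcancel] at h
        exact (hmin (j - i) (by omega) (by omega)).1 (frob_iter_injective i h).symm
      · rw [show i = j + (i - j) by omega, hcancel] at h
        exact (hmin (i - j) (by omega) (by omega)).1 (frob_iter_injective j h)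
    have hdisj : Disjoint (orb a d) ((orb a d).image (·⁻¹)) := by
      rw [Finset.disjoint_left]
      intro x hx hx'
      obtain ⟨i, hi, rfl⟩ := Finset.mem_image.1 hx
      obtain ⟨y, hy, hy'⟩ := Finset.mem_image.1 hx'
      obtain ⟨j, hj, rfl⟩ := Finset.mem_image.1 hy
      rw [Finset.mem_range] at hi hj
      rcases lt_trichotomy i j with hij | rfl | hij
      · rw [show j = i + (j - i) by omega, hcancel, ← inv_pow] at hy'
        have h := frob_iter_injective i hy'
        exact (hmin (j - i) (by omega) (by omega)).2 (inv_injective (h.trans (inv_inv a).symm))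
      · rw [← inv_pow] at hy'
        exact (self_inv ha0 (frob_iter_injective i hy').symm).elim ha1 ha2
      · rw [show i = j + (i - j) by omega, hcancel, ← inv_pow] at hy'
        exact (hmin (i - j) (by omega) (by omega)).2 (frob_iter_injective j hy').symm
    rw [orb', Finset.card_union_of_disjoint hdisj, Finset.card_image_of_injective _ inv_injective, orb,
      Finset.card_image_of_injOn hinjO, Finset.card_range, two_mul]
  · simpa using (hmemO 0).1
  · intro x hx N hN
    rcases mem_orb' hx with ⟨i, rfl | rfl⟩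
    · rw [← pow_mul, mul_comm, pow_mul, hN, one_pow]
    · rw [inv_pow, ← pow_mul, mul_comm, pow_mul, hN, one_pow, inv_one]
  · intro b hb i hbi hper
    obtain ⟨P, hP, hbP⟩ := hper
    -- some Frobenius power of an element of the orbit is `b ^ ±1`
    have hclosed : ∀ x ∈ orb' a d, ∀ k, x ^ q ^ k ∈ orb' a d ∧ x⁻¹ ^ q ^ k ∈ orb' a d := by
      intro x hx k
      rcases mem_orb' hx with ⟨j, rfl | rfl⟩
      · rw [inv_pow, ← hcancel]; exact hmemO _
      · rw [inv_inv, inv_pow, ← hcancel]; exact (hmemO _).symm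
    have hper' : ∀ m : ℕ, b ^ q ^ (P * m) = b := fun m => by
      induction m with
      | zero => simp
      | succ m ih => rw [Nat.mul_succ, pow_add, pow_mul, ih, hbP]
    have hback : (b ^ q ^ i) ^ q ^ (P * i - i) = b := by
      rw [← pow_mul, ← pow_add, Nat.add_sub_cancel' (Nat.le_mul_of_pos_left i hP), hper']
    rcases hbi with h | h
    · have := (hclosed _ h (P * i - i)).1
      rwa [hback] at this
    · have := (hclosed _ h (P * i - i)).2
      rwa [inv_inv, hback] at this

end CfsgLib.Classical.OrthNineSpec
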