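import Mathlib
import Cfsg.Agent.Lib.Classical.OrthNineSpec.Block

/-!
# Element orders realised in the natural semidirect product of `Ω⁻(8)`
-/

set_option autoImplicit false
set_option linter.all false

namespace CfsgLib.Classical.OrthNineSpec

open Matrix CfsgLib.Classical CfsgLib.Orth Cfsg.Geo CfsgLib.Perm.Elusive

variable {F : Type*} [Field F] [Fintype F] {a b : F}

local notation "pol" => QuadraticMap.polar
local notation "P9" => Cfsg.quadFormOdd 4 F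
local notation "q" => Fintype.card F

theorem RH.of_dvd {p N N' : ℕ} (h : RH p a b N) (hd : N' ∣ N) : RH p a b N' := by
  obtain ⟨x, hx, h | ⟨h1, h3⟩⟩ := h
  · exact ⟨x, hx, Or.inl (hd.trans h)⟩
  · exact ⟨x, hx, Or.inr ⟨h1, hd.trans h3⟩⟩

/-- minus form as minus plus plus -/
def idxSplit {k e : ℕ} (h : k + e = 3) :
    ((Fin k ⊕ Fin k) ⊕ Fin 2) ⊕ (Fin e ⊕ Fin e) ≃ (Fin 3 ⊕ Fin 3) ⊕ Fin 2 where
  toFun := Sum.elim (Sum.elim (Sum.elim (fun i => .inl (.inl (Fin.cast h (Fin.castAdd e i))))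
      (fun i => .inl (.inr (Fin.cast h (Fin.castAdd e i))))) Sum.inr)
    (Sum.elim (fun i => .inl (.inl (Fin.cast h (Fin.natAdd k i)))) (fun i => .inl (.inr (Fin.cast h (Fin.natAdd k i)))))
  invFun := Sum.elim (Sum.elim
      (fun i => Fin.addCases (fun j => .inl (.inl (.inl j))) (fun j => .inr (.inl j)) (Fin.cast h.symm i))
      (fun i => Fin.addCases (fun j => .inl (.inl (.inr j))) (fun j => .inr (.inr j)) (Fin.cast h.symm i)))
    (fun i => .inl (.inr i))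
  left_inv := by rintro (((i | i) | i) | (i | i)) <;> simp
  right_inv := by
    rintro ((i | i) | i)
    · obtain ⟨j, rfl⟩ := (finCongr h).surjective i
      refine Fin.addCases (fun x => ?_) (fun x => ?_) j <;> simp
    · obtain ⟨j, rfl⟩ := (finCongr h).surjective i
      refine Fin.addCases (fun x => ?_) (fun x => ?_) j <;> simp
    · simp

theorem minus_split {k e : ℕ} (h : k + e = 3) (v : (Fin 3 ⊕ Fin 3) ⊕ Fin 2 → F) :
    Cfsg.quadFormMinus 3 F a b v = sumForm (Cfsg.quadFormMinus k F a b) (Cfsg.quadFormPlus e F) (v ∘ idxSplit h) := by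
  simp only [sumForm, Cfsg.quadFormMinus, Cfsg.quadFormPlus, Function.comp_apply]
  rw [← Equiv.sum_comp (finCongr h) (fun i => v (.inl (.inl i)) * v (.inl (.inr i))), Fin.sum_univ_add]
  simp [idxSplit]
  ring

variable (p : ℕ) [Fact p.Prime] [CharP F p] (h2 : (2 : F) ≠ 0) (hp2 : p ≠ 2)
  (hab : ∀ z₁ z₂ : F, z₁ ^ 2 + a * z₁ * z₂ + b * z₂ ^ 2 = 0 → z₁ = 0 ∧ z₂ = 0)

include h2 hab in
theorem rh_direct {k e : ℕ} (h : k + e = 3) {o₁ o₂ : Prop} {t₁ t₂ : ℕ}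
    (A : Blk (Cfsg.quadFormMinus k F a b) t₁ o₁) (B : Blk (Cfsg.quadFormPlus e F) t₂ o₂)
    (e₁ : 2 ∣ t₁) (e₂ : 2 ∣ t₂) (ho : (o₁ ∧ Odd (t₁ / 2)) ∨ (o₂ ∧ Odd (t₂ / 2))) :
    RH p a b (Nat.lcm t₁ t₂) := by
  obtain ⟨y, hy, hyo⟩ := exists_pair h2 (minus_nd hab k) (plusQ_coe (F := F) e ▸ nd_of_qf _ (plusQ_nondeg e))
    (by simp; omega) A B e₁ e₂ ho
  obtain ⟨ε, -⟩ := exists_congr (Q := Cfsg.quadFormMinus 3 F a b)
    (R := sumForm (Cfsg.quadFormMinus k F a b) (Cfsg.quadFormPlus e F))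
    (LinearEquiv.funCongrLeft F F (idxSplit h).symm) one_ne_zero (fun v => by
      rw [one_mul, minus_split h]
      congr 1 <;> funext i <;> simp [LinearEquiv.funCongrLeft_apply, LinearMap.funLeft_apply])
  exact ⟨ε y, (congr_mem_omega ε y).2 hy, Or.inl (by rw [ε.orderOf_eq, hyo])⟩

include h2 hp2 hab in
theorem rh_of_big {z : ↥(Cfsg.isometryGroup F P9)} (hz : z ∈ Cfsg.Omega F P9) (D : Split p (isoEnd P9 z))
    (h3 : 3 ≤ Module.finrank F (LinearMap.ker (D.s - 1))) : RH p a b (orderOf z) := by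
  obtain ⟨M⟩ := exists_emb h2 hab
  have hss : D.s ^ D.m = 1 := by have := pow_orderOf_eq_one D.s; rwa [D.order_s] at this
  have hm : (D.m : F) ≠ 0 := fun e => D.not_dvd ((CharP.cast_eq_zero_iff F p D.m).1 e)
  have hIs := (D.isom (P := oddQ 4 F) (fun v => by rw [oddQ_coe]; exact isoEnd_isom z v)).1
  obtain ⟨d, L, hd, -, hL⟩ := exists_odd_sub h2 ((oddQ 4 F).comp (LinearMap.ker (D.s - 1)).subtype)
    (qnd_restrict (fixed_qnd hss hm (oddQ_nondeg h2 4) hIs)) (m := 1) (by omega)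
  obtain ⟨v, hv⟩ : ∃ v, Cfsg.quadFormOdd 1 F v = dd a b / d :=
    ⟨Sum.elim 0 (Sum.elim (fun _ => dd a b / d) (fun _ => 1)), by simp [Cfsg.quadFormOdd]⟩
  refine rh_of_class p h2 hp2 (dd_ne h2 hab) M hz D (c := (L v : Unit ⊕ (Fin 4 ⊕ Fin 4) → F)) ?_ ?_
  · have := (L v).2
    rwa [LinearMap.mem_ker, LinearMap.sub_apply, Module.End.one_apply, sub_eq_zero] at this
  · have := hL v
    rw [hv, mul_div_cancel₀ _ hd] at this
    exact (congrFun (oddQ_coe 4).symm _).trans this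

include h2 hp2 hab in
theorem rh_block {α : Type} [Fintype α] [DecidableEq α] {X : (α → F) → F} (hX : IsNondegenerateQuadraticForm X)
    {h : ℕ} (hα : Fintype.card α + (2 * h + 1) = 9) (hα2 : 2 ≤ Fintype.card α) (hh : 1 ≤ h)
    {y : ↥(Cfsg.isometryGroup F X)} (hy : y ∈ Cfsg.Omega F X) {r : ℕ} (hr : Odd r) (hrh : r ≤ 2 * h + 1) :
    ∃ j, r ≤ p ^ j ∧ RH p a b (Nat.lcm (orderOf y) (p ^ j)) := by
  have hp := (Fact.out : p.Prime)
  have hR := odd_nd (F := F) h2 h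
  -- the unipotent block
  obtain ⟨T, hTI, hTr, ⟨w, -, hw⟩, -, -⟩ := exists_regular h2 (qnd_top (oddQ_nondeg (F := F) h2 h)) hr
    (by rw [finrank_top, Module.finrank_fintype_fun_eq_card]; simp; omega)
  obtain ⟨j, hj, hjr⟩ := pow_prime_index p T hTr fun e => hw (by rw [e]; rfl)
  obtain ⟨zu, hzu⟩ := exists_iso (Q := Cfsg.quadFormOdd h F) T (fun v => by rw [← oddQ_coe]; exact hTI v)
    (IsUnit.of_pow_eq_one (by rw [← hj]; exact pow_orderOf_eq_one T) (pow_ne_zero _ hp.ne_zero))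
  have hou : orderOf zu = p ^ j := by rw [← orderOf_isoEnd, hzu, hj]
  refine ⟨j, hjr, ?_⟩
  obtain ⟨g, hg⟩ : ∃ g, g = blockIso X (Cfsg.quadFormOdd h F) (y, zu) := ⟨_, rfl⟩
  have hS := sumForm_nd hX hR
  have hgΩ : g ∈ Cfsg.Omega F (sumForm X (Cfsg.quadFormOdd h F)) := by
    rw [hg, show blockIso X (Cfsg.quadFormOdd h F) (y, zu) = blockIso X _ (y, 1) * blockIso X _ (1, zu) by
      rw [← map_mul, Prod.mk_mul_mk, mul_one, one_mul]]
    refine mul_mem (blockIso_mem_omega hy (one_mem _)) ?_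
    refine mem_omega_of_odd' hS (by simp; omega) _ ?_
    refine Odd.of_dvd_nat ((hp.odd_of_ne_two hp2).pow (n := j)) (orderOf_dvd_of_pow_eq_one ?_)
    rw [← map_pow, Prod.pow_mk, one_pow, ← hou, pow_orderOf_eq_one, show ((1 : ↥(Cfsg.isometryGroup F X)), (1 : ↥(Cfsg.isometryGroup F (Cfsg.quadFormOdd h F)))) = 1 from rfl, map_one]
  obtain ⟨SQ, hSQ⟩ := CfsgLib.Orth.FieldCls.exists_qf hS
  have hSQn : (QuadraticMap.polarBilin SQ).Nondegenerate := by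
    have key : ∀ x, (∀ v, pol SQ x v = 0) → x = 0 := fun x hx => by
      by_contra hne
      obtain ⟨-, v, hv⟩ := (hS.nondegenerate x hne)
      exact hv (by rw [← hSQ]; exact hx v)
    exact ⟨key, fun v hv => key v fun u => (QuadraticMap.polar_comm _ v u).trans (hv u)⟩
  obtain ⟨d, L, hd, hL, hLP⟩ := CfsgLib.Orth.FieldCls.exists_odd_normal h2 SQ hSQn (m := 4)
    (by rw [Module.finrank_fintype_fun_eq_card]; simp; omega)
  let Le := LinearMap.linearEquivOfInjective L hL (by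
    rw [Module.finrank_fintype_fun_eq_card, Module.finrank_fintype_fun_eq_card]; simp; omega)
  obtain ⟨ε, hε⟩ := exists_congr (R := P9) (Q := sumForm X (Cfsg.quadFormOdd h F)) Le hd (fun v => by
    rw [← hSQ]; exact hLP v)
  have hgo : orderOf g = Nat.lcm (orderOf y) (p ^ j) := by
    have hinj : Function.Injective (blockIso X (Cfsg.quadFormOdd h F)) := fun x x' e => by
      have e' : ∀ v, (blockGL (x.1.1, x.2.1) : Matrix (α ⊕ (Unit ⊕ (Fin h ⊕ Fin h))) (α ⊕ (Unit ⊕ (Fin h ⊕ Fin h))) F) *ᵥ v = (blockGL (x'.1.1, x'.2.1) : Matrix (α ⊕ (Unit ⊕ (Fin h ⊕ Fin h))) (α ⊕ (Unit ⊕ (Fin h ⊕ Fin h))) F) *ᵥ v := fun v =>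
        congrArg (fun t : ↥(Cfsg.isometryGroup F (sumForm X (Cfsg.quadFormOdd h F))) => (t.1 : Matrix (α ⊕ (Unit ⊕ (Fin h ⊕ Fin h))) (α ⊕ (Unit ⊕ (Fin h ⊕ Fin h))) F) *ᵥ v) e
      refine Prod.ext (Subtype.ext (Units.ext (Matrix.ext_iff_mulVec.2 fun v => ?_))) (Subtype.ext (Units.ext (Matrix.ext_iff_mulVec.2 fun v => ?_)))
      · have h := congrArg (fun f => f ∘ Sum.inl) (e' (Sum.elim v 0))
        simpa [blockGL_mulVec] using h
      · have h := congrArg (fun f => f ∘ Sum.inr) (e' (Sum.elim 0 v))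
        simpa [blockGL_mulVec] using h
    rw [hg, orderOf_injective _ hinj, Prod.orderOf, hou]
  obtain ⟨z, hz⟩ : ∃ z, ε z = g := ⟨ε.symm g, ε.apply_symm_apply g⟩
  have hzo : orderOf z = Nat.lcm (orderOf y) (p ^ j) := by rw [← hgo, ← hz, ε.orderOf_eq]
  obtain ⟨D⟩ := exists_split p (isoEnd P9 z) (by rw [orderOf_isoEnd]; exact orderOf_pos z)
  rw [← hzo]
  refine rh_of_big p h2 hp2 hab ((congr_mem_omega ε z).1 (hz ▸ hgΩ)) D ?_
  obtain ⟨k, hk⟩ := D.s_pow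
  -- the semisimple part is trivial on the odd block
  have hzuk : zu ^ k = 1 := by
    have h1 : (zu ^ k) ^ D.m = 1 := by
      have hs : (z ^ k) ^ D.m = 1 := isoEnd_injective P9 (by
        rw [map_pow, map_pow, ← hk, map_one]
        have := pow_orderOf_eq_one D.s
        rwa [D.order_s] at this)
      have h3 : (g ^ k) ^ D.m = 1 := by rw [← hz, ← map_pow, ← map_pow, hs, map_one]
      rw [hg, ← map_pow, ← map_pow] at h3
      have h4 := congrArg (fun t : ↥(Cfsg.isometryGroup F (sumForm X (Cfsg.quadFormOdd h F))) => isoEnd _ t) h3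
      refine isoEnd_injective _ (LinearMap.ext fun v => ?_)
      have h5 := congrArg (fun f => f ∘ Sum.inr) (LinearMap.congr_fun h4 (Sum.elim (0 : α → F) v))
      simp only [isoEnd_apply, map_one, Module.End.one_apply] at h5 ⊢
      rw [show (blockIso X (Cfsg.quadFormOdd h F) (((y, zu) ^ k) ^ D.m)).1 =
        blockGL (((y ^ k) ^ D.m).1, ((zu ^ k) ^ D.m).1) from rfl, blockGL_mulVec] at h5
      simpa using h5
    have h6 : orderOf (zu ^ k) ∣ Nat.gcd (p ^ j) D.m := Nat.dvd_gcd (hou ▸ orderOf_pow_dvd k) (orderOf_dvd_of_pow_eq_one h1)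
    rw [Nat.Coprime.gcd_eq_one (((hp.coprime_iff_not_dvd).2 D.not_dvd).pow_left j)] at h6
    exact orderOf_eq_one_iff.1 (Nat.dvd_one.1 h6)
  let f : ((Unit ⊕ (Fin h ⊕ Fin h)) → F) →ₗ[F] LinearMap.ker (D.s - 1) :=
    (Le.symm.toLinearMap ∘ₗ
      ({ toFun := fun w => Sum.elim 0 w
         map_add' := fun x y => by funext i; rcases i with i | i <;> simp
         map_smul' := fun c x => by funext i; rcases i with i | i <;> simp } :
        (Unit ⊕ (Fin h ⊕ Fin h) → F) →ₗ[F] (α ⊕ (Unit ⊕ (Fin h ⊕ Fin h)) → F))).codRestrict _ fun w => by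
      rw [LinearMap.mem_ker, LinearMap.sub_apply, Module.End.one_apply, sub_eq_zero, hk, ← map_pow]
      apply Le.injective
      rw [← hε, map_pow, hz, hg, ← map_pow, LinearMap.comp_apply]
      simp only [LinearEquiv.coe_coe, LinearEquiv.apply_symm_apply]
      show isoEnd _ (blockIso X (Cfsg.quadFormOdd h F) (y ^ k, zu ^ k)) (Sum.elim (0 : α → F) w) = Sum.elim (0 : α → F) w
      rw [hzuk, isoEnd_apply]
      show (blockGL ((y ^ k).1, (1 : GL (Unit ⊕ (Fin h ⊕ Fin h)) F)) : Matrix (α ⊕ (Unit ⊕ (Fin h ⊕ Fin h))) (α ⊕ (Unit ⊕ (Fin h ⊕ Fin h))) F) *ᵥ _ = _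
      rw [blockGL_mulVec]
      simp
  have hf : Function.Injective f := fun u u' e => by
    have h1 := Le.symm.injective (congrArg Subtype.val e)
    exact funext fun i => congrFun h1 (.inr i)
  have := LinearMap.finrank_le_finrank_of_injective hf
  rw [Module.finrank_fintype_fun_eq_card] at this
  simp at this
  omega

/-- the numbers that suffice for elements without fixed semisimple space -/
def IsTarget (p Q N : ℕ) : Prop :=
  N = (Q ^ 4 - 1) / 2 ∨ N = Nat.lcm (Q ^ 3 - 1) (Q + 1) ∨ N = Nat.lcm (Q ^ 3 + 1) (Q - 1) ∨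
    N = p * Nat.lcm (Q ^ 2 + 1) (Q - 1) ∨ N = p * Nat.lcm (Q ^ 2 + 1) (Q + 1) ∨ N = p * (Q ^ 2 - 1) ∨
    (p = 3 ∧ N = 9 * ((Q ^ 2 - 1) / 2)) ∨ (p = 5 ∧ N = 50)

include hp2 in
theorem card_mod_four_five (h5 : p = 5) : q % 4 = 1 := by
  obtain ⟨n, -, hn⟩ := FiniteField.card F p
  rw [hn, h5, Nat.pow_mod]; simp

theorem not_dvd_card_shift {Q : ℕ} (hpQ : p ∣ Q) {i : ℕ} (hi : 1 ≤ i) : ¬ p ∣ Q ^ i + 1 ∧ ¬ p ∣ Q ^ i - 1 ∨ Q = 0 := by
  rcases Nat.eq_zero_or_pos Q with h | h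
  · exact Or.inr h
  have hd : p ∣ Q ^ i := dvd_pow hpQ (by omega)
  have hp1 := (Fact.out : p.Prime).one_lt
  refine Or.inl ⟨fun h1 => ?_, fun h1 => ?_⟩
  · have := Nat.le_of_dvd one_pos ((Nat.dvd_add_right hd).1 h1); omega
  · have h3 := Nat.dvd_sub hd h1
    rw [Nat.sub_sub_self (Nat.one_le_pow _ _ h)] at h3
    have := Nat.le_of_dvd one_pos h3; omega

include h2 hp2 hab in
theorem rh_target {N : ℕ} (hN : IsTarget p q N) : RH p a b N := by
  obtain ⟨Q, hQ⟩ : ∃ Q, Q = q := ⟨_, rfl⟩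
  have hodd : Odd Q := hQ ▸ odd_card h2
  have hQ3 : 3 ≤ Q := by
    have := Fintype.one_lt_card (α := F)
    obtain ⟨i, hi⟩ := hodd
    omega
  have hpQ : p ∣ Q := by
    rw [hQ, ← CharP.cast_eq_zero_iff F p]
    exact FiniteField.cast_card_eq_zero F
  have hco : ∀ i, 1 ≤ i → Nat.Coprime p (Q ^ i + 1) ∧ Nat.Coprime p (Q ^ i - 1) := fun i hi => by
    rcases not_dvd_card_shift p hpQ hi with ⟨h1, h3⟩ | h0
    · exact ⟨(Fact.out : p.Prime).coprime_iff_not_dvd.2 h1, (Fact.out : p.Prime).coprime_iff_not_dvd.2 h3⟩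
    · omega
  have hmul : ∀ j L, 3 ≤ p ^ j → Nat.Coprime p L → p * L ∣ Nat.lcm L (p ^ j) := fun j L hj hL => by
    refine Nat.Coprime.mul_dvd_of_dvd_of_dvd hL ?_ (Nat.dvd_lcm_left _ _)
    exact (dvd_pow_self p fun h => by rw [h, pow_zero] at hj; omega).trans (Nat.dvd_lcm_right _ _)
  have hev : ∀ i, 1 ≤ i → 2 ∣ Q ^ i - 1 ∧ 2 ∣ Q ^ i + 1 := fun i hi => by
    obtain ⟨s, hs⟩ := hodd.pow (n := i)
    omega
  have hmod : Q % 4 = 1 ∨ Q % 4 = 3 := by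
    obtain ⟨i, hi⟩ := hodd; omega
  have hp4 : ∀ i, Q % 4 = 1 → Odd ((Q ^ i + 1) / 2) := fun i h => by
    have : Q ^ i % 4 = 1 := by rw [Nat.pow_mod, h]; simp
    exact Nat.odd_iff.2 (by omega)
  have hm4 : Q % 4 = 3 → ∀ i, Odd i → Q ^ i % 4 = 3 := fun h i hi => by
    obtain ⟨s, rfl⟩ := hi
    rw [Nat.pow_mod, h, pow_add, pow_mul, Nat.mul_mod, Nat.pow_mod]; simp
  have hm4' : Q % 4 = 3 → ∀ i, Odd i → Odd ((Q ^ i - 1) / 2) := fun h i hi => by
    have := hm4 h i hi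
    exact Nat.odd_iff.2 (by omega)
  have hsq : Odd ((Q ^ 2 + 1) / 2) := by
    have : Q ^ 2 % 4 = 1 := by
      rcases hmod with h | h <;> rw [Nat.pow_mod, h]
    exact Nat.odd_iff.2 (by omega)
  have blkP : ∀ e, 1 ≤ e → Nonempty (Blk (Cfsg.quadFormPlus e F) (Q ^ e - 1) (Odd e ∧ Q % 4 = 3)) := fun e he =>
    hQ ▸ blk_plus h2 he
  have blkM : ∀ k, Nonempty (Blk (Cfsg.quadFormMinus k F a b) (Q ^ (k + 1) + 1) (Odd k ∨ Q % 4 = 1)) := fun k =>
    hQ ▸ blk_minus h2 hab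
  have hPn : ∀ e, IsNondegenerateQuadraticForm (Cfsg.quadFormPlus e F) := fun e =>
    plusQ_coe (F := F) e ▸ nd_of_qf _ (plusQ_nondeg e)
  rw [← hQ] at hN
  rcases hN with rfl | rfl | rfl | rfl | rfl | rfl | ⟨h3, rfl⟩ | ⟨h5, rfl⟩
  · obtain ⟨A⟩ := blkM 1
    obtain ⟨B⟩ := blkP 2 (by norm_num)
    refine (rh_direct p h2 hab (by norm_num) A B (hev 2 (by norm_num)).2 (hev 2 (by norm_num)).1
      (Or.inl ⟨Or.inl odd_one, hsq⟩)).of_dvd ?_
    have e1 : Q ^ 4 - 1 = (Q ^ 2 + 1) * (Q ^ 2 - 1) := by rw [← Nat.sq_sub_sq, one_pow, ← pow_mul]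
    have h1 := Nat.gcd_mul_lcm (Q ^ (1 + 1) + 1) (Q ^ 2 - 1)
    have hg : Nat.gcd (Q ^ (1 + 1) + 1) (Q ^ 2 - 1) ∣ 2 := by
      have h3 := Nat.dvd_sub (Nat.gcd_dvd_left (Q ^ (1 + 1) + 1) (Q ^ 2 - 1)) (Nat.gcd_dvd_right _ _)
      rwa [show Q ^ (1 + 1) + 1 - (Q ^ 2 - 1) = 2 by
        have := Nat.one_le_pow 2 Q (by omega); norm_num; omega] at h3
    obtain ⟨c, hc⟩ := hg
    have h4 : Q ^ 4 - 1 ∣ 2 * Nat.lcm (Q ^ (1 + 1) + 1) (Q ^ 2 - 1) := ⟨c, by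
      rw [e1, show Q ^ 2 + 1 = Q ^ (1 + 1) + 1 by norm_num, ← h1]; conv_lhs => arg 1; rw [hc]
      ring⟩
    obtain ⟨s, hs⟩ := (hev 4 (by norm_num)).1
    rw [hs, Nat.mul_div_cancel_left _ two_pos]
    exact Nat.dvd_of_mul_dvd_mul_left two_pos (hs ▸ h4)
  · obtain ⟨A⟩ := blkM 0
    obtain ⟨B⟩ := blkP 3 (by norm_num)
    refine (rh_direct p h2 hab (by norm_num) A B (hev 1 le_rfl).2 (hev 3 (by norm_num)).1 ?_).of_dvd
      (by rw [Nat.lcm_comm, pow_one])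
    rcases hmod with h | h
    · exact Or.inl ⟨Or.inr h, hp4 _ h⟩
    · exact Or.inr ⟨⟨⟨1, by norm_num⟩, h⟩, hm4' h _ ⟨1, by norm_num⟩⟩
  · obtain ⟨A⟩ := blkM 2
    obtain ⟨B⟩ := blkP 1 le_rfl
    refine (rh_direct p h2 hab (by norm_num) A B (hev 3 (by norm_num)).2 (hev 1 le_rfl).1 ?_).of_dvd
      (by rw [pow_one])
    rcases hmod with h | h
    · exact Or.inl ⟨Or.inr h, hp4 _ h⟩
    · exact Or.inr ⟨⟨odd_one, h⟩, hm4' h _ odd_one⟩
  · obtain ⟨A⟩ := blkM 1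
    obtain ⟨B⟩ := blkP 1 le_rfl
    obtain ⟨y, hy, hyo⟩ := exists_pair h2 (minus_nd hab 1) (hPn 1) (by simp) A B (hev 2 (by norm_num)).2
      (hev 1 le_rfl).1 (Or.inl ⟨Or.inl odd_one, hsq⟩)
    obtain ⟨j, hj, hR⟩ := rh_block p h2 hp2 hab (sumForm_nd (minus_nd hab 1) (hPn 1)) (h := 1) (by simp) (by simp)
      le_rfl hy (r := 3) ⟨1, by norm_num⟩ (by norm_num)
    rw [hyo, pow_one] at hR
    exact hR.of_dvd (hmul j _ hj (Nat.Coprime.coprime_dvd_right (Nat.lcm_dvd_mul _ _)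
      (Nat.Coprime.mul_right (hco 2 (by norm_num)).1 (by simpa using (hco 1 le_rfl).2))))
  · obtain ⟨A⟩ := blkM 1
    obtain ⟨B⟩ := blkM 0
    obtain ⟨y, hy, hyo⟩ := exists_pair h2 (minus_nd hab 1) (minus_nd hab 0) (by simp) A B (hev 2 (by norm_num)).2
      (hev 1 le_rfl).2 (Or.inl ⟨Or.inl odd_one, hsq⟩)
    obtain ⟨j, hj, hR⟩ := rh_block p h2 hp2 hab (sumForm_nd (minus_nd hab 1) (minus_nd hab 0)) (h := 1) (by simp)
      (by simp) le_rfl hy (r := 3) ⟨1, by norm_num⟩ (by norm_num)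
    rw [hyo, zero_add, pow_one] at hR
    exact hR.of_dvd (hmul j _ hj (Nat.Coprime.coprime_dvd_right (Nat.lcm_dvd_mul _ _)
      (Nat.Coprime.mul_right (hco 2 (by norm_num)).1 (by simpa using (hco 1 le_rfl).1))))
  · obtain ⟨A⟩ := blkP 2 (by norm_num)
    rcases hmod with h | h
    · obtain ⟨B⟩ := blkM 0
      obtain ⟨y, hy, hyo⟩ := exists_pair h2 (hPn 2) (minus_nd hab 0) (by simp) A B (hev 2 (by norm_num)).1
        (hev 1 le_rfl).2 (Or.inr ⟨Or.inr h, hp4 _ h⟩)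
      obtain ⟨j, hj, hR⟩ := rh_block p h2 hp2 hab (sumForm_nd (hPn 2) (minus_nd hab 0)) (h := 1) (by simp) (by simp)
        le_rfl hy (r := 3) ⟨1, by norm_num⟩ (by norm_num)
      rw [hyo] at hR
      refine hR.of_dvd ((hmul j _ hj (hco 2 (by norm_num)).2).trans ?_)
      exact Nat.lcm_dvd ((Nat.dvd_lcm_left _ _).trans (Nat.dvd_lcm_left _ _)) (Nat.dvd_lcm_right _ _)
    · obtain ⟨B⟩ := blkP 1 le_rfl
      obtain ⟨y, hy, hyo⟩ := exists_pair h2 (hPn 2) (hPn 1) (by simp) A B (hev 2 (by norm_num)).1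
        (hev 1 le_rfl).1 (Or.inr ⟨⟨odd_one, h⟩, hm4' h _ odd_one⟩)
      obtain ⟨j, hj, hR⟩ := rh_block p h2 hp2 hab (sumForm_nd (hPn 2) (hPn 1)) (h := 1) (by simp) (by simp)
        le_rfl hy (r := 3) ⟨1, by norm_num⟩ (by norm_num)
      rw [hyo] at hR
      refine hR.of_dvd ((hmul j _ hj (hco 2 (by norm_num)).2).trans ?_)
      exact Nat.lcm_dvd ((Nat.dvd_lcm_left _ _).trans (Nat.dvd_lcm_left _ _)) (Nat.dvd_lcm_right _ _)
  · obtain ⟨A⟩ := blkM 0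
    obtain ⟨B⟩ := blkP 1 le_rfl
    obtain ⟨y, hy, hyo⟩ := exists_pair h2 (minus_nd hab 0) (hPn 1) (by simp) A B (hev 1 le_rfl).2 (hev 1 le_rfl).1
      (by
        rcases hmod with h | h
        · exact Or.inl ⟨Or.inr h, hp4 _ h⟩
        · exact Or.inr ⟨⟨odd_one, h⟩, hm4' h _ odd_one⟩)
    obtain ⟨j, hj, hR⟩ := rh_block p h2 hp2 hab (sumForm_nd (minus_nd hab 0) (hPn 1)) (h := 2) (by simp) (by simp)
      (by norm_num) hy (r := 5) ⟨2, by norm_num⟩ (by norm_num)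
    rw [hyo, zero_add, pow_one] at hR
    refine hR.of_dvd ?_
    subst h3
    have hj2 : 2 ≤ j := by
      by_contra hle
      interval_cases j <;> omega
    refine Nat.Coprime.mul_dvd_of_dvd_of_dvd ?_ ((pow_dvd_pow 3 hj2).trans (Nat.dvd_lcm_right _ _))
      (Dvd.dvd.trans ?_ (Nat.dvd_lcm_left _ _))
    · exact Nat.Coprime.pow_left 2 ((hco 2 (by norm_num)).2.coprime_dvd_right (Nat.div_dvd_of_dvd (hev 2 (by norm_num)).1))
    · have e1 : Q ^ 2 - 1 = (Q + 1) * (Q - 1) := by rw [← Nat.sq_sub_sq, one_pow]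
      have h1 := Nat.gcd_mul_lcm (Q + 1) (Q - 1)
      have hg : Nat.gcd (Q + 1) (Q - 1) ∣ 2 := by
        have h3 := Nat.dvd_sub (Nat.gcd_dvd_left (Q + 1) (Q - 1)) (Nat.gcd_dvd_right _ _)
        rwa [show Q + 1 - (Q - 1) = 2 by omega] at h3
      obtain ⟨c, hc⟩ := hg
      have h4 : Q ^ 2 - 1 ∣ 2 * Nat.lcm (Q + 1) (Q - 1) := ⟨c, by
        rw [e1, ← h1]; conv_lhs => arg 1; rw [hc]
        ring⟩
      obtain ⟨s, hs⟩ := (hev 2 (by norm_num)).1
      rw [hs, Nat.mul_div_cancel_left _ two_pos]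
      exact Nat.dvd_of_mul_dvd_mul_left two_pos (hs ▸ h4)
  · have h4 := hQ ▸ card_mod_four_five p hp2 h5
    obtain ⟨A⟩ := blkP 1 le_rfl
    have hy : A.z ^ 2 ∈ Cfsg.Omega F (Cfsg.quadFormPlus 1 F) := by
      rw [mem_omega_iff (hPn 1) (by simp) (hex_of_two h2)]
      refine ⟨?_, (parHom_eq_one_iff (hPn 1) (hex_of_two h2) (A.z ^ 2)).1 ?_⟩
      · show spnHom (hPn 1) (hex_of_two h2) (A.z ^ 2) = 1
        rw [map_pow]
        by_cases h' : spnHom (hPn 1) (hex_of_two h2) A.z = 1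
        · rw [h', one_pow]
        · by_contra hne
          have h3 := sqClass_eq h2 hne h'
          rw [pow_two, mul_eq_left] at h3
          exact h' h3
      · rw [map_pow, (parHom_eq_one_iff (hPn 1) (hex_of_two h2) A.z).2 A.ev, one_pow]
    obtain ⟨j, hj, hR⟩ := rh_block p h2 hp2 hab (hPn 1) (h := 3) (by simp) (by simp) (by norm_num) hy (r := 7)
      ⟨3, by norm_num⟩ (by norm_num)
    refine hR.of_dvd ?_
    rw [orderOf_pow' A.z two_ne_zero, A.order, Nat.gcd_eq_right (hev 1 le_rfl).1, pow_one]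
    subst h5
    have hj2 : 2 ≤ j := by
      by_contra hle
      interval_cases j <;> omega
    show 2 * 25 ∣ _
    refine Nat.Coprime.mul_dvd_of_dvd_of_dvd (by norm_num) (Dvd.dvd.trans ?_ (Nat.dvd_lcm_left _ _))
      ((pow_dvd_pow 5 hj2).trans (Nat.dvd_lcm_right _ _))
    omega

end CfsgLib.Classical.OrthNineSpec
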