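import Mathlib
import Cfsg.Agent.Lib.Classical.OrthNineSpec.Orbits
import Cfsg.Agent.Lib.Classical.OrthNineSpec.Realise
import Cfsg.Agent.Lib.Classical.QuadOrder

/-!
# Orders of elements of the plus type group in eight variables without fixed vectors
-/

set_option autoImplicit false
set_option linter.all false
set_option maxHeartbeats 1000000

namespace CfsgLib.Classical.OrthNineSpec

open Polynomial Matrix CfsgLib.Classical CfsgLib.Classical.RootOrbits

variable {F : Type*} [Field F] [Fintype F]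

local notation "pol" => QuadraticMap.polar
local notation "K" => AlgebraicClosure F
local notation "II" => Fin 4 ⊕ Fin 4
local notation "q" => Fintype.card F

theorem plusQ_ev (v : II → F) : plusQ 4 F v = Cfsg.quadFormPlus 4 F v := congrFun (plusQ_coe 4) v

/-- eigenvalues of an isometry of the plus form are closed under inversion -/
theorem eig_inv_plus {M : Matrix II II F} (hI : ∀ v, Cfsg.quadFormPlus 4 F (M *ᵥ v) = Cfsg.quadFormPlus 4 F v) :
    (eig M).map (·⁻¹) = eig M := by
  obtain ⟨J, hJ⟩ : ∃ J : Matrix II II F, J = Matrix.fromBlocks 0 1 1 0 := ⟨_, rfl⟩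
  have hJJ : J * J = 1 := by rw [hJ, Matrix.fromBlocks_multiply]; simp
  have hform : ∀ u v, pol (Cfsg.quadFormPlus 4 F) u v = u ⬝ᵥ (J *ᵥ v) := fun u v => by
    rw [hJ, Matrix.fromBlocks_mulVec]
    simp only [QuadraticMap.polar, Cfsg.quadFormPlus, Pi.add_apply, dotProduct, Fintype.sum_sum_type, Sum.elim_inl,
      Sum.elim_inr, Matrix.zero_mulVec, Matrix.one_mulVec, zero_add, add_zero, Function.comp_apply]
    simp only [← Finset.sum_sub_distrib, ← Finset.sum_add_distrib]
    exact Finset.sum_congr rfl fun i _ => by ring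
  have hMJ : Mᵀ * J * M = J := by
    ext i j
    have h : pol (Cfsg.quadFormPlus 4 F) (M *ᵥ Pi.single i 1) (M *ᵥ Pi.single j 1) =
        pol (Cfsg.quadFormPlus 4 F) (Pi.single i 1) (Pi.single j 1) := by
      simp only [QuadraticMap.polar, ← Matrix.mulVec_add, hI]
    rw [hform, hform, ← Matrix.vecMul_transpose, ← Matrix.dotProduct_mulVec, Matrix.mulVec_mulVec, Matrix.mulVec_mulVec] at h
    simpa [Matrix.mulVec_single, dotProduct, Pi.single_apply] using h
  have hl : J * Mᵀ * J * M = 1 := by rw [mul_assoc J, mul_assoc, hMJ, hJJ]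
  refine eig_inv M (IsUnit.of_mul_eq_one_right _ hl) ?_
  rw [Matrix.inv_eq_left_inv hl]
  let U : (Matrix II II F)ˣ := ⟨J, J, hJJ, hJJ⟩
  have := Matrix.charpoly_units_conj U Mᵀ
  rw [← Matrix.coe_units_inv U] at this
  exact this.trans (Matrix.charpoly_transpose M)

/-- Fitting decomposition -/
theorem fitting {V : Type*} [AddCommGroup V] [Module F V] [FiniteDimensional F V] (g : Module.End F V) {n : ℕ}
    (hn : Module.finrank F V = n) :
    ∀ v : V, ∃ w, (g ^ n) w = 0 ∧ ∃ y, v = w + (g ^ n) y := by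
  intro v
  have hst : LinearMap.ker (g ^ n) ⊔ LinearMap.range (g ^ n) = ⊤ := by
    refine Submodule.eq_top_of_disjoint _ _ (by
      have := LinearMap.finrank_range_add_finrank_ker (g ^ n); omega) ?_
    rw [Submodule.disjoint_def]
    rintro _ hx ⟨y, rfl⟩
    rw [LinearMap.mem_ker, ← Module.End.mul_apply, ← pow_add] at hx
    have h1 : y ∈ LinearMap.ker (g ^ (n + n)) := hx
    rw [← Module.End.genEigenspace_zero_nat] at h1
    have h3 : y ∈ Module.End.maxGenEigenspace g (0 : F) := (Module.End.genEigenspace g (0 : F)).monotone le_top h1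
    rw [Module.End.maxGenEigenspace_eq_genEigenspace_finrank, hn, Module.End.genEigenspace_zero_nat] at h3
    exact h3
  have hv : v ∈ LinearMap.ker (g ^ n) ⊔ LinearMap.range (g ^ n) := hst ▸ Submodule.mem_top
  obtain ⟨w, hw, _, ⟨y, rfl⟩, rfl⟩ := Submodule.mem_sup.1 hv
  exact ⟨w, hw, y, rfl⟩

theorem isom_adj {V : Type*} [AddCommGroup V] [Module F V] {P : QuadraticForm F V} {f Ψ : Module.End F V}
    (hI : ∀ v, P (f v) = P v) (hΨ : f * Ψ = 1) (hΨ' : Ψ * f = 1) :
    ∀ (i : ℕ) u v, pol (⇑P) u (((f + 1) ^ i) v) = pol (⇑P) ((Ψ ^ i) (((f + 1) ^ i) u)) v := by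
  have e1 : ∀ a b, pol (⇑P) a ((f + 1) b) = pol (⇑P) (Ψ ((f + 1) a)) b := fun a b => by
    have ea : a = f (Ψ a) := by rw [← Module.End.mul_apply, hΨ]; rfl
    rw [LinearMap.add_apply, Module.End.one_apply, QuadraticMap.polar_add_right, LinearMap.add_apply,
      Module.End.one_apply, map_add, ← Module.End.mul_apply Ψ f, hΨ', Module.End.one_apply, QuadraticMap.polar_add_left]
    conv_lhs => arg 1; rw [ea]
    rw [pol_map hI, add_comm]
  have hcm : Commute Ψ (f + 1) := by
    refine Commute.add_right ?_ (Commute.one_right _)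
    show Ψ * f = f * Ψ
    rw [hΨ, hΨ']
  intro i
  induction i with
  | zero => intro u v; simp
  | succ i ih =>
    intro u v
    rw [pow_succ' (f + 1), Module.End.mul_apply, e1, ih]
    congr 1
    rw [← pow_succ' (f + 1), ← Module.End.mul_apply, ← Module.End.mul_apply, ← Module.End.mul_apply, ← Module.End.mul_apply]
    refine LinearMap.congr_fun ?_ u
    rw [mul_assoc (Ψ ^ i), mul_assoc (Ψ ^ i), mul_assoc ((f + 1) ^ i), ← mul_assoc ((f + 1) ^ i), ← (hcm.pow_right i).eq,
      mul_assoc Ψ, ← pow_succ, ← mul_assoc, ← pow_succ]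

/-- the generalized eigenspace of `-1` of dimension at most `d + 1`, `d` odd, is killed by `(f + 1) ^ d` -/
theorem neg_one_block {V : Type*} [AddCommGroup V] [Module F V] [FiniteDimensional F V] {P : QuadraticForm F V}
    (h2 : (2 : F) ≠ 0) (hP : (QuadraticMap.polarBilin P).Nondegenerate) {f Ψ : Module.End F V}
    (hI : ∀ v, P (f v) = P v) (hΨ : f * Ψ = 1) (hΨ' : Ψ * f = 1) {n d : ℕ} (hn : Module.finrank F V = n) (hd : Odd d)
    (hdim : Module.finrank F (LinearMap.ker ((f + 1) ^ n)) ≤ d + 1) :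
    ∀ v : V, ∃ w y, v = w + ((f + 1) ^ n) y ∧ ((f + 1) ^ d) w = 0 := by
  intro v
  obtain ⟨w, hw, y, hv⟩ := fitting (f + 1) hn v
  refine ⟨w, y, hv, ?_⟩
  obtain ⟨W, hW⟩ : ∃ W, W = LinearMap.ker ((f + 1) ^ n) := ⟨_, rfl⟩
  rw [← hW] at hdim
  have hWmem : ∀ x, x ∈ W ↔ ((f + 1) ^ n) x = 0 := fun x => by rw [hW]; rfl
  have hinv : ∀ x ∈ W, (-f) x ∈ W := fun x hx => by
    rw [hWmem] at hx ⊢
    rw [LinearMap.neg_apply, map_neg, ← Module.End.mul_apply,
      (((Commute.refl f).add_left (Commute.one_left _)).pow_left n).eq, Module.End.mul_apply, hx, map_zero, neg_zero]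
  obtain ⟨T, hT⟩ : ∃ T : Module.End F W, ∀ x : W, (T x : V) = - f x := ⟨(-f).restrict hinv, fun x => rfl⟩
  have hTp : ∀ i (x : W), (((T - 1) ^ i) x : V) = (-1 : F) ^ i • ((f + 1) ^ i) (x : V) := by
    intro i
    induction i with
    | zero => intro x; simp
    | succ i ih =>
      intro x
      rw [pow_succ', Module.End.mul_apply, LinearMap.sub_apply, Module.End.one_apply, Submodule.coe_sub, hT, ih,
        pow_succ' (f + 1), Module.End.mul_apply, LinearMap.add_apply, Module.End.one_apply, map_smul, pow_succ]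
      module
  have hfin : ∀ i, (T - 1) ^ i = 0 → i ≤ d → ((f + 1) ^ d) w = 0 := fun i h3 hi => by
    have h4 := hTp i ⟨w, (hWmem w).2 hw⟩
    rw [h3] at h4
    have h5 : ((f + 1) ^ i) w = 0 := (smul_eq_zero.1 h4.symm).resolve_left (pow_ne_zero _ (neg_ne_zero.2 one_ne_zero))
    rw [show d = (d - i) + i by omega, pow_add, Module.End.mul_apply, h5, map_zero]
  have hTnil : IsNilpotent (T - 1) := ⟨n, LinearMap.ext fun x => Subtype.ext (by
    rw [hTp, (hWmem x).1 x.2, smul_zero]; rfl)⟩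
  rcases Nat.lt_or_ge (Module.finrank F W) (d + 1) with h3 | h3
  · refine hfin (Module.finrank F W) ?_ (by omega)
    have h4 := LinearMap.aeval_self_charpoly (T - 1)
    rw [hTnil.charpoly_eq_X_pow_finrank, map_pow, Polynomial.aeval_X] at h4
    exact h4
  · have heq : Module.finrank F W = d + 1 := le_antisymm hdim h3
    have hWn : CfsgLib.Perm.Elusive.QNd P W := by
      rw [CfsgLib.Perm.Elusive.qnd_iff]
      intro x hx hx0
      by_contra hall
      push Not at hall
      refine hx0 (hP.1 x fun z => ?_)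
      obtain ⟨w', hw', y', rfl⟩ := fitting (f + 1) hn z
      show pol (⇑P) x _ = 0
      rw [QuadraticMap.polar_add_right, hall w' ((hWmem w').2 hw'), isom_adj hI hΨ hΨ', (hWmem x).1 hx, map_zero,
        QuadraticMap.polar_zero_left, add_zero]
    have h4 := parity (P := P.comp W.subtype) h2 (CfsgLib.Perm.Elusive.qnd_restrict hWn) (T := T)
      (fun x => by
        show P (T x : V) = P (x : V)
        rw [hT, QuadraticMap.map_neg, hI]) hTnil (by rw [heq]; exact hd.add_one) (by omega)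
    rw [heq, Nat.add_sub_cancel] at h4
    exact hfin _ h4 le_rfl

/-- the eigenvalue `-1` costs one step less -/
theorem pow_eq_one_refined (p : ℕ) [Fact p.Prime] [CharP F p] (h2 : (2 : F) ≠ 0) [DecidableEq K] {M : Matrix II II F}
    (hI : ∀ v, Cfsg.quadFormPlus 4 F (M *ᵥ v) = Cfsg.quadFormPlus 4 F v) (hu : IsUnit M)
    {N e : ℕ} (hN : 0 < N) (hNev : 2 ∣ N) (h : ∀ x ∈ eig M, x ^ N = 1)
    (hc : ∀ x, x ≠ -1 → (eig M).count x ≤ p ^ e) (hc1 : (eig M).count (-1 : K) ≤ p ^ e + 1) :
    M ^ (N * p ^ e) = 1 := by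
  haveI : CharP K p := charP_of_injective_algebraMap (algebraMap F K).injective p
  have hne : ((X : K[X]) ^ N - 1) ≠ 0 := by simpa using X_pow_sub_C_ne_zero hN (1 : K)
  have hX1 : ((X : K[X]) + 1) ≠ 0 := by simpa using Polynomial.X_add_C_ne_zero (1 : K)
  have hroot : ∀ x, x ^ N = 1 → 1 ≤ ((X : K[X]) ^ N - 1).roots.count x := fun x hx => by
    rw [Nat.one_le_iff_ne_zero, ← Nat.pos_iff_ne_zero, Multiset.count_pos, mem_roots hne]
    simp [hx]
  have hneg : (-1 : K) ^ N = 1 := by
    obtain ⟨c, rfl⟩ := hNev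
    rw [pow_mul, neg_one_sq, one_pow]
  have hdvd : ((eig M).map fun a => X - C a).prod ∣ (X ^ N - 1 : K[X]) ^ p ^ e * (X + 1) := by
    have hne2 : (X ^ N - 1 : K[X]) ^ p ^ e * (X + 1) ≠ 0 := mul_ne_zero (pow_ne_zero _ hne) hX1
    rw [Multiset.prod_X_sub_C_dvd_iff_le_roots hne2, roots_mul hne2, roots_pow, Multiset.le_iff_count]
    intro x
    rw [Multiset.count_add, Multiset.count_nsmul]
    by_cases hx : x ∈ eig M
    · have h1 := Nat.le_mul_of_pos_right (p ^ e) (hroot x (h x hx))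
      by_cases hxn : x = -1
      · subst hxn
        have h3 : 1 ≤ ((X : K[X]) + 1).roots.count (-1) := by
          rw [Nat.one_le_iff_ne_zero, ← Nat.pos_iff_ne_zero, Multiset.count_pos, mem_roots hX1]
          simp
        omega
      · have := hc x hxn
        omega
    · simp [Multiset.count_eq_zero_of_notMem hx]
  have h0 := aeval_eq_zero_of_dvd_aeval_eq_zero hdvd (aeval_eig M)
  rw [map_mul, sub_pow_char_pow, one_pow, ← pow_mul, aeval_X_pow_sub_one, map_add, aeval_X, map_one] at h0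
  have h1 : (M ^ (N * p ^ e) - 1) * (M + 1) = 0 := by
    refine Matrix.map_injective (algebraMap F K).injective ?_
    show ((M ^ (N * p ^ e) - 1) * (M + 1)).map (algebraMap F K) = (0 : Matrix II II F).map (algebraMap F K)
    rw [Matrix.map_mul, Matrix.map_sub _ (by simp), Matrix.map_add _ (by simp), Matrix.map_one _ (map_zero _) (map_one _),
      h0, Matrix.map_zero _ (map_zero _)]
  -- move to endomorphisms
  obtain ⟨f, hf⟩ : ∃ f : Module.End F (II → F), f = Matrix.toLinAlgEquiv' M := ⟨_, rfl⟩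
  obtain ⟨Φ, hΦ⟩ : ∃ Φ : Module.End F (II → F), Φ = f ^ (N * p ^ e) - 1 := ⟨_, rfl⟩
  have hΦ1 : Φ * (f + 1) = 0 := by
    have h3 := congrArg (Matrix.toLinAlgEquiv' : Matrix II II F ≃ₐ[F] _) h1
    simpa [hΦ, hf] using h3
  suffices hz : Φ = 0 by
    refine (Matrix.toLinAlgEquiv' : Matrix II II F ≃ₐ[F] _).injective ?_
    rw [map_pow, map_one, ← hf, ← sub_eq_zero, ← hΦ, hz]
  haveI := charP_end (F := F) (V := II → F) p
  -- a factor `(f + 1) ^ (p ^ e)` of `Φ`
  obtain ⟨G, hG⟩ : ∃ G : Module.End F (II → F), Φ = G * (f + 1) ^ p ^ e := by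
    have h3 : ((X : F[X]) + 1) ∣ X ^ N - 1 := by
      rw [show ((X : F[X]) + 1) = X - C (-1) by simp, dvd_iff_isRoot]
      obtain ⟨c, rfl⟩ := hNev
      simp [IsRoot, pow_mul]
    obtain ⟨R, hR⟩ := pow_dvd_pow_of_dvd h3 (p ^ e)
    refine ⟨Polynomial.aeval f R, ?_⟩
    rw [sub_pow_char_pow, one_pow, ← pow_mul, mul_comm _ R] at hR
    have h4 := congrArg (Polynomial.aeval f) hR
    simpa [hΦ] using h4
  have hdim : Module.finrank F (II → F) = 8 := by rw [Module.finrank_fintype_fun_eq_card]; rfl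
  have hshift : f - (-1 : F) • (1 : Module.End F (II → F)) = f + 1 := LinearMap.ext fun x => by
    simp [LinearMap.smul_apply]
  have hWd : Module.finrank F (LinearMap.ker ((f + 1) ^ 8)) ≤ p ^ e + 1 := by
    rw [← hshift, ← Module.End.genEigenspace_nat, ← hdim, ← Module.End.maxGenEigenspace_eq_genEigenspace_finrank,
      LinearMap.finrank_maxGenEigenspace_eq, hf,
      show LinearMap.charpoly (Matrix.toLinAlgEquiv' M : Module.End F (II → F)) = M.charpoly from Matrix.charpoly_toLin' M,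
      Polynomial.eq_rootMultiplicity_map (algebraMap F K).injective, ← Matrix.charpoly_map, map_neg, map_one,
      ← Polynomial.count_roots]
    exact hc1
  obtain ⟨Ψ, hΨ, hΨ'⟩ : ∃ Ψ : Module.End F (II → F), f * Ψ = 1 ∧ Ψ * f = 1 := by
    obtain ⟨u, hu'⟩ := hu.map (Matrix.toLinAlgEquiv' : Matrix II II F ≃ₐ[F] _)
    exact ⟨((u⁻¹ : (Module.End F (II → F))ˣ) : Module.End F (II → F)), by rw [hf, ← hu', Units.mul_inv],
      by rw [hf, ← hu', Units.inv_mul]⟩
  have hfI : ∀ v, plusQ 4 F (f v) = plusQ 4 F v := fun v => by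
    rw [plusQ_ev, plusQ_ev, hf, Matrix.toLinAlgEquiv'_apply]; exact hI v
  have hodd : Odd (p ^ e) := by
    refine Odd.pow ?_
    refine (Fact.out : p.Prime).odd_of_ne_two fun h5 => h2 ?_
    subst h5
    exact CharP.cast_eq_zero F 2
  have hc8 : Commute Φ ((f + 1) ^ 8) := by
    rw [hΦ]
    refine (Commute.sub_left ?_ (Commute.one_left _)).pow_right _
    exact (((Commute.refl f).add_right (Commute.one_right _)).pow_left _)
  refine LinearMap.ext fun v => ?_
  obtain ⟨w, y, rfl, hsu⟩ := neg_one_block h2 (plusQ_nondeg (F := F) 4) hfI hΨ hΨ' hdim hodd hWd v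
  have e2 : (Φ * (f + 1) ^ (7 + 1) : Module.End F (II → F)) y = 0 := by rw [pow_succ', ← mul_assoc, hΦ1, zero_mul]; rfl
  rw [map_add, ← Module.End.mul_apply, e2, add_zero, LinearMap.zero_apply, hG, Module.End.mul_apply, hsu, map_zero]

theorem isUnit_pow_sub_one [DecidableEq K] {M : Matrix II II F} {i : ℕ} (hi : 0 < i) (h : ∀ x ∈ eig M, x ^ i ≠ 1)
    {v : II → F} (hv : (M ^ i) *ᵥ v = v) : v = 0 := by
  have hco : IsCoprime ((eig M).map fun a => X - C a).prod ((X : K[X]) ^ i - 1) := by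
    have key : ∀ S : Multiset K, (∀ x ∈ S, x ^ i ≠ 1) → IsCoprime (S.map fun a => X - C a).prod ((X : K[X]) ^ i - 1) := by
      intro S
      induction S using Multiset.induction with
      | empty => intro _; simpa using isCoprime_one_left
      | cons x S ih =>
        intro hS
        rw [Multiset.map_cons, Multiset.prod_cons]
        refine IsCoprime.mul_left ?_ (ih fun y hy => hS y (Multiset.mem_cons_of_mem hy))
        refine (irreducible_X_sub_C x).coprime_iff_not_dvd.2 fun hd => hS x (Multiset.mem_cons_self x S) ?_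
        have := (dvd_iff_isRoot.1 hd)
        simpa [IsRoot, sub_eq_zero] using this
    exact key _ h
  obtain ⟨U, V, hUV⟩ := hco
  have h1 := congrArg (aeval (M.map (algebraMap F K))) hUV
  rw [map_add, map_mul, map_mul, aeval_eig, mul_zero, zero_add, aeval_X_pow_sub_one, map_one] at h1
  have hw : (M ^ i).map (algebraMap F K) *ᵥ (algebraMap F K ∘ v) = algebraMap F K ∘ v := by
    funext j
    rw [← RingHom.map_mulVec, hv]
    rfl
  have h3 := congrArg (fun A : Matrix II II K => A *ᵥ (algebraMap F K ∘ v)) h1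
  simp only [← Matrix.mulVec_mulVec, Matrix.sub_mulVec, hw, Matrix.one_mulVec, sub_self, Matrix.mulVec_zero] at h3
  funext j
  have h4 := congrFun h3 j
  exact ((_root_.map_eq_zero (algebraMap F K)).1 h4.symm)

/-- an element acting freely on the singular vectors -/
theorem dvd_singular (f : Module.End F (II → F)) (hI : ∀ v, Cfsg.quadFormPlus 4 F (f v) = Cfsg.quadFormPlus 4 F v)
    (hf : 0 < orderOf f) (hfree : ∀ i, 0 < i → i < orderOf f → ∀ v, (f ^ i) v = v → v = 0) :
    (orderOf f : ℤ) ∣ ((q : ℤ) ^ 4 - 1) * ((q : ℤ) ^ 3 + 1) := by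
  classical
  obtain ⟨u, hu⟩ : IsUnit f := IsUnit.of_pow_eq_one (pow_orderOf_eq_one f) hf.ne'
  let S := {v : II → F // Cfsg.quadFormPlus 4 F v = 0 ∧ v ≠ 0}
  let e : Equiv.Perm S :=
    { toFun := fun v => ⟨(u : Module.End F (II → F)) v.1, by rw [hu, hI]; exact v.2.1, fun h => v.2.2 (by
        have := congrArg (fun x => ((u⁻¹ : (Module.End F (II → F))ˣ) : Module.End F (II → F)) x) h
        simpa [← Module.End.mul_apply] using this)⟩
      invFun := fun v => ⟨((u⁻¹ : (Module.End F (II → F))ˣ) : Module.End F (II → F)) v.1, by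
          rw [← hI, ← hu, ← Module.End.mul_apply, Units.mul_inv]; exact v.2.1, fun h => v.2.2 (by
        have := congrArg (fun x => (u : Module.End F (II → F)) x) h
        simpa [← Module.End.mul_apply] using this)⟩
      left_inv := fun v => Subtype.ext (by show _ = v.1; simp [← Module.End.mul_apply])
      right_inv := fun v => Subtype.ext (by show _ = v.1; simp [← Module.End.mul_apply]) }
  have hpow : ∀ (i : ℕ) (v : S), ((e ^ i) v).1 = (f ^ i) v.1 := fun i => by
    induction i with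
    | zero => intro v; rfl
    | succ i ih =>
      intro v
      rw [pow_succ', pow_succ', Equiv.Perm.mul_apply, Module.End.mul_apply, ← ih, ← hu]
      rfl
  have hne : Nonempty S := ⟨⟨Pi.single (Sum.inl 0) 1, by simp [Cfsg.quadFormPlus, Pi.single_apply], fun h => by
    simpa using congrFun h (Sum.inl 0)⟩⟩
  have heo : orderOf e = orderOf f := by
    refine Nat.dvd_antisymm (orderOf_dvd_of_pow_eq_one (Equiv.ext fun v => Subtype.ext (by
      rw [hpow, pow_orderOf_eq_one]; rfl))) ?_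
    rw [Nat.dvd_iff_mod_eq_zero]
    by_contra h0
    obtain ⟨v⟩ := hne
    have h1 : (f ^ (orderOf e % orderOf f)) v.1 = v.1 := by
      rw [pow_mod_orderOf, ← hpow, pow_orderOf_eq_one]; rfl
    exact v.2.2 (hfree _ (Nat.pos_of_ne_zero h0) (Nat.mod_lt _ hf) _ h1)
  obtain ⟨H, hH⟩ : ∃ H, H = Subgroup.zpowers e := ⟨_, rfl⟩
  have hfix : ∀ g : H, g ≠ 1 → ∀ v : S, g • v ≠ v := by
    rintro ⟨g, hg⟩ hg1 v hgv
    rw [hH] at hg
    obtain ⟨i, rfl⟩ := (isOfFinOrder_of_finite e).mem_powers_iff_mem_zpowers.2 hg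
    have hmod : i % orderOf f ≠ 0 := fun h0 => hg1 (Subtype.ext (by
      show e ^ i = 1
      rw [← pow_mod_orderOf, heo, h0, pow_zero]))
    refine v.2.2 (hfree _ (Nat.pos_of_ne_zero hmod) (Nat.mod_lt _ hf) _ ?_)
    rw [pow_mod_orderOf, ← hpow]
    exact congrArg Subtype.val hgv
  letI : Fintype H := Fintype.ofFinite _
  letI : ∀ g : H, Fintype (MulAction.fixedBy S g) := fun g => Fintype.ofFinite _
  letI : Fintype (Quotient (MulAction.orbitRel H S)) := Fintype.ofFinite _
  have hb := MulAction.sum_card_fixedBy_eq_card_orbits_mul_card_group H S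
  rw [Finset.sum_eq_single (1 : H) (fun g _ hg => Fintype.card_eq_zero_iff.2 ⟨fun x => hfix g hg x.1 x.2⟩)
    (fun h => absurd (Finset.mem_univ _) h)] at hb
  rw [← Nat.card_eq_fintype_card, ← Nat.card_eq_fintype_card, ← Nat.card_eq_fintype_card] at hb
  have hH' : Nat.card H = orderOf f := by rw [hH, Nat.card_zpowers, heo]
  have h1 : Nat.card (MulAction.fixedBy S (1 : H)) = Nat.card S :=
    Nat.card_congr { toFun := fun x => x.1, invFun := fun x => ⟨x, one_smul H x⟩, left_inv := fun x => rfl, right_inv := fun x => rfl }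
  rw [h1, hH'] at hb
  have hcard : (Nat.card S : ℤ) + 1 = (q : ℤ) ^ 7 + (q : ℤ) ^ 4 - (q : ℤ) ^ 3 := by
    have h := CfsgLib.Classical.card_sing_plus (F := F) 3
    have e : {v : II → F // Cfsg.quadFormPlus 4 F v = 0} ≃ Option S :=
      { toFun := fun x => if h : x.1 = 0 then none else some ⟨x.1, x.2, h⟩
        invFun := fun o => o.elim ⟨0, by simp [Cfsg.quadFormPlus]⟩ fun v => ⟨v.1, v.2.1⟩
        left_inv := fun x => by
          by_cases h : x.1 = 0
          · simp [h, Subtype.ext_iff]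
          · simp [h]
        right_inv := fun o => by
          rcases o with _ | v
          · simp
          · simp [v.2.2] }
    rw [Nat.card_congr e, Finite.card_option] at h
    push_cast at h
    linear_combination h
  refine ⟨(Nat.card (Quotient (MulAction.orbitRel H S)) : ℤ), ?_⟩
  have hb' : (Nat.card S : ℤ) = (Nat.card (Quotient (MulAction.orbitRel H S)) : ℤ) * (orderOf f : ℤ) := by
    exact_mod_cast hb
  linear_combination hb' - hcard

theorem exists_target (p : ℕ) [Fact p.Prime] [CharP F p] (h2 : (2 : F) ≠ 0) {M : Matrix II II F}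
    (hI : ∀ v, Cfsg.quadFormPlus 4 F (M *ᵥ v) = Cfsg.quadFormPlus 4 F v) (hu : IsUnit M)
    (hfix : ∀ v, M *ᵥ v = v → v = 0) (hsq : IsSquare (1 - M).det) : ∃ N, IsTarget p q N ∧ M ^ N = 1 := by
  classical
  have hp := (Fact.out : p.Prime)
  have hp2 : p ≠ 2 := fun h5 => h2 (by subst h5; exact CharP.cast_eq_zero F 2)
  have hp3 : 3 ≤ p := by have := hp.two_le; omega
  obtain ⟨Q, hQ⟩ : ∃ Q, Q = q := ⟨_, rfl⟩
  have hQo : Odd Q := hQ ▸ odd_card h2
  have hQ3 : 3 ≤ Q := by
    have := Fintype.one_lt_card (α := F)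
    obtain ⟨i, hi⟩ := hQo
    omega
  have hev : ∀ i, 2 ∣ Q ^ i - 1 ∧ 2 ∣ Q ^ i + 1 := fun i => by
    obtain ⟨s, hs⟩ := hQo.pow (n := i)
    omega
  have hQ9 : 9 ≤ Q ^ 2 := by have := Nat.mul_le_mul hQ3 hQ3; rw [sq]; omega
  have hpowle : ∀ i, 2 ≤ i → Q ^ 2 ≤ Q ^ i := fun i hi => Nat.pow_le_pow_right (by omega) hi
  obtain ⟨E, hE⟩ : ∃ E, E = eig M := ⟨_, rfl⟩
  have hinv := eig_inv_plus hI
  have h0 : ∀ x ∈ E, x ≠ 0 := fun x hx h => by
    subst h
    have h1 := prod_eig M
    rw [← hE, Multiset.prod_eq_zero hx, map_eq_zero] at h1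
    exact ((Matrix.isUnit_iff_isUnit_det M).1 hu).ne_zero h1
  have hdet : (1 - M).det ≠ 0 := fun h => by
    obtain ⟨v, hv0, hv⟩ := Matrix.exists_mulVec_eq_zero_iff.2 h
    rw [Matrix.sub_mulVec, Matrix.one_mulVec, sub_eq_zero] at hv
    exact hv0 (hfix v hv.symm)
  have hprod : algebraMap F K (1 - M).det = (E.map fun x => 1 - x).prod := by
    have h1 : (1 - M).det = M.charpoly.eval 1 := by rw [Matrix.eval_charpoly, map_one]
    rw [h1, ← Polynomial.eval₂_at_apply, ← Polynomial.eval_map, map_one, ← Matrix.charpoly_map,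
      (IsAlgClosed.splits (M.map (algebraMap F K)).charpoly).eq_prod_roots_of_monic (Matrix.charpoly_monic _),
      Polynomial.eval_multiset_prod, Multiset.map_map, hE, eig]
    simp
  have h1ne : ∀ x ∈ E, x ≠ 1 := fun x hx h => by
    refine hdet ?_
    rw [← map_eq_zero (algebraMap F K), hprod, Multiset.prod_eq_zero_iff]
    exact Multiset.mem_map.2 ⟨x, hx, by rw [h, sub_self]⟩
  -- total weight
  have htot : ∑ x ∈ E.toFinset, E.count x = 8 := by rw [Multiset.toFinset_sum_count_eq, hE, card_eig]; rfl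
  have hle : ∀ T : Finset K, ∑ x ∈ T, E.count x ≤ 8 := fun T =>
    hE ▸ le_of_le_of_eq (card_le M (fun x => (eig M).count x) (T := T) fun x _ => le_rfl) rfl
  have hceven : Even (E.count (-1 : K)) := by
    have h1 : ((∑ x ∈ E.toFinset.erase (-1), E.count x : ℕ) : ZMod 2) = 0 := by
      rw [Nat.cast_sum]
      refine Finset.sum_involution (fun x _ => x⁻¹) (fun x hx => ?_) (fun x hx _ h => ?_) (fun x hx => ?_)
        (fun x _ => inv_inv x)
      · rw [hE, count_inv _ hinv]
        exact CharTwo.add_self_eq_zero _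
      · rw [Finset.mem_erase, Multiset.mem_toFinset] at hx
        rcases self_inv (h0 x hx.2) h.symm with h' | h'
        · exact h1ne x hx.2 h'
        · exact hx.1 h'
      · rw [Finset.mem_erase, Multiset.mem_toFinset] at hx ⊢
        refine ⟨fun h => hx.1 (by rw [← inv_inv x, h, inv_neg, inv_one]), ?_⟩
        rw [hE, ← Multiset.count_pos, count_inv _ hinv]
        exact Multiset.count_pos.2 (hE ▸ hx.2)
    rw [ZMod.natCast_eq_zero_iff_even] at h1
    by_cases hm : (-1 : K) ∈ E.toFinset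
    · rw [← Finset.add_sum_erase _ _ hm] at htot
      obtain ⟨t, ht⟩ := h1
      exact ⟨4 - t, by omega⟩
    · rw [Multiset.mem_toFinset] at hm
      rw [Multiset.count_eq_zero_of_notMem hm]
      exact Even.zero
  -- orbits
  have horb : ∀ x ∈ E, x ≠ -1 → ∃ d O, OrbData M x d O := fun x hx hx2 =>
    exists_orbData M hinv (hE ▸ hx) (h0 x hx) (h1ne x hx) hx2
  have hsum : ∀ {x : K} {d : ℕ} {O : Finset K}, OrbData M x d O → ∑ y ∈ O, E.count y = 2 * d * E.count x := by
    intro x d O hO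
    rw [hE, Finset.sum_congr rfl hO.count, Finset.sum_const, hO.card, smul_eq_mul]
  have hexp : ∀ {x : K} {d : ℕ} {O : Finset K}, x ∈ E → OrbData M x d O → x ^ (Q ^ d - 1) = 1 ∨ x ^ (Q ^ d + 1) = 1 := by
    intro x d O hx hO
    rw [hQ]
    rcases hO.sign with h | h
    · left
      refine mul_right_cancel₀ (h0 x hx) ?_
      rw [← pow_succ, Nat.sub_add_cancel (Nat.one_le_pow _ _ Fintype.card_pos), h, one_mul]
    · right
      rw [pow_succ, h, inv_mul_cancel₀ (h0 x hx)]
  have hnot : ∀ {x : K} {d : ℕ} {O : Finset K}, x ∈ E → x ≠ -1 → OrbData M x d O → (-1 : K) ∉ O := by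
    intro x d O hx hx2 hO hm
    rcases hO.conj _ hm with ⟨i, h | h⟩
    · refine hx2 (frob_iter_injective i ?_)
      show x ^ q ^ i = (-1 : K) ^ q ^ i
      rw [← h, (hQ ▸ hQo.pow : Odd (q ^ i)).neg_one_pow]
    · refine hx2 (frob_iter_injective i ?_)
      show x ^ q ^ i = (-1 : K) ^ q ^ i
      rw [(hQ ▸ hQo.pow : Odd (q ^ i)).neg_one_pow, ← inv_inv (x ^ q ^ i), ← h, inv_neg, inv_one]
  have hdisj : ∀ {x y : K} {d e : ℕ} {O P : Finset K}, y ∈ E → OrbData M x d O → OrbData M y e P → y ∉ O →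
      Disjoint O P := by
    intro x y d e O P hy hO hP hyO
    rw [Finset.disjoint_left]
    intro z hzO hzP
    refine hyO ?_
    rcases hP.conj z hzP with ⟨i, h | h⟩
    · exact hO.class_eq y (h0 y hy) i (Or.inl (h ▸ hzO)) (frob_periodic _ (hE ▸ hy))
    · exact hO.class_eq y (h0 y hy) i (Or.inr (h ▸ hzO)) (frob_periodic _ (hE ▸ hy))
  have w1 : ∀ {x : K} {d : ℕ} {O : Finset K}, x ∈ E → x ≠ -1 → OrbData M x d O →
      2 * d * E.count x + E.count (-1 : K) ≤ 8 := by
    intro x d O hx hx2 hO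
    have h := hle (O ∪ {-1})
    rwa [Finset.sum_union (Finset.disjoint_singleton_right.2 (hnot hx hx2 hO)), hsum hO, Finset.sum_singleton] at h
  have w2 : ∀ {x y : K} {d e : ℕ} {O P : Finset K}, x ∈ E → x ≠ -1 → y ∈ E → y ≠ -1 → OrbData M x d O →
      OrbData M y e P → y ∉ O → 2 * d * E.count x + 2 * e * E.count y + E.count (-1 : K) ≤ 8 := by
    intro x y d e O P hx hx2 hy hy2 hO hP hyO
    have h := hle (O ∪ P ∪ {-1})
    rwa [Finset.sum_union (Finset.disjoint_singleton_right.2 fun h => by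
        rcases Finset.mem_union.1 h with h | h
        · exact hnot hx hx2 hO h
        · exact hnot hy hy2 hP h), Finset.sum_union (hdisj hy hO hP hyO), hsum hO, hsum hP, Finset.sum_singleton] at h
  have w3 : ∀ {x y z : K} {d e g : ℕ} {O P R : Finset K}, x ∈ E → x ≠ -1 → y ∈ E → y ≠ -1 → z ∈ E → z ≠ -1 →
      OrbData M x d O → OrbData M y e P → OrbData M z g R → y ∉ O → z ∉ O → z ∉ P →
      2 * d * E.count x + 2 * e * E.count y + 2 * g * E.count z + E.count (-1 : K) ≤ 8 := by
    intro x y z d e g O P R hx hx2 hy hy2 hz hz2 hO hP hR hyO hzO hzP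
    have h := hle (O ∪ P ∪ R ∪ {-1})
    rwa [Finset.sum_union (Finset.disjoint_singleton_right.2 fun h => by
        rcases Finset.mem_union.1 h with h | h
        · rcases Finset.mem_union.1 h with h | h
          · exact hnot hx hx2 hO h
          · exact hnot hy hy2 hP h
        · exact hnot hz hz2 hR h),
      Finset.sum_union (Finset.disjoint_union_left.2 ⟨hdisj hz hO hR hzO, hdisj hz hP hR hzP⟩),
      Finset.sum_union (hdisj hy hO hP hyO), hsum hO, hsum hP, hsum hR, Finset.sum_singleton] at h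
  have hpos : ∀ {x}, x ∈ E → 1 ≤ E.count x := fun hx => Multiset.count_pos.2 hx
  have fin : ∀ (N e : ℕ) {t : ℕ}, 0 < N → 2 ∣ N → (∀ x ∈ E, x ≠ -1 → x ^ N = 1) →
      (∀ x ∈ E, x ≠ -1 → E.count x ≤ p ^ e) → E.count (-1 : K) ≤ p ^ e + 1 → N * p ^ e ∣ t → IsTarget p q t →
      ∃ N, IsTarget p q N ∧ M ^ N = 1 := by
    intro N e t hN hN2 h hc hc1 ht htarget
    refine ⟨t, htarget, ?_⟩
    obtain ⟨c, rfl⟩ := ht
    rw [pow_mul, pow_eq_one_refined p h2 hI hu hN hN2 (fun x hx => ?_) (fun x hx2 => ?_) (hE ▸ hc1), one_pow]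
    · by_cases hx2 : x = -1
      · subst hx2
        obtain ⟨c', rfl⟩ := hN2
        rw [pow_mul, neg_one_sq, one_pow]
      · exact h x (hE ▸ hx) hx2
    · by_cases hx : x ∈ E
      · exact hE ▸ hc x hx hx2
      · rw [← hE, Multiset.count_eq_zero_of_notMem hx]; exact Nat.zero_le _
  have e4 : Q ^ 4 - 1 = (Q ^ 2 + 1) * (Q ^ 2 - 1) := by rw [← Nat.sq_sub_sq, one_pow, ← pow_mul]
  have e2 : Q ^ 2 - 1 = (Q + 1) * (Q - 1) := by rw [← Nat.sq_sub_sq, one_pow]
  obtain ⟨H, hH⟩ : ∃ H, Q ^ 2 - 1 = 2 * H := ⟨(Q ^ 2 - 1) / 2, (Nat.mul_div_cancel' (hev 2).1).symm⟩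
  have hHe : 2 ∣ H ∧ Q - 1 ∣ H ∧ Q + 1 ∣ H := by
    obtain ⟨s, hs⟩ := (hev 1).1
    obtain ⟨u, hu'⟩ := (hev 1).2
    rw [pow_one] at hs hu'
    have h2s : Q ^ 2 - 1 = 2 * (2 * (s * u)) := by rw [e2, hs, hu']; ring
    have hHval : H = 2 * (s * u) := by omega
    rw [hHval, hs, hu']
    exact ⟨dvd_mul_right _ _, ⟨u, by ring⟩, ⟨s, by ring⟩⟩
  have hAeq : (Q ^ 4 - 1) / 2 = (Q ^ 2 + 1) * H := by
    rw [e4, hH, mul_left_comm, Nat.mul_div_cancel_left _ two_pos]
  have hEeq : (Q ^ 2 - 1) / 2 = H := by rw [hH, Nat.mul_div_cancel_left _ two_pos]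
  have hH0 : 0 < H := by omega
  -- long orbits
  by_cases hex4 : ∃ a ∈ E, a ≠ -1 ∧ ∃ d O, OrbData M a d O ∧ 4 ≤ d
  · obtain ⟨a, ha, ha2, d, O, hO, hd⟩ := hex4
    have hw := w1 ha ha2 hO
    have hca := hpos ha
    obtain rfl : d = 4 := by nlinarith
    have hca1 : E.count a = 1 := by omega
    have hall : ∀ x ∈ E, x ∈ O := fun x hx => by
      by_contra hxO
      have hx2 : x ≠ -1 := fun h => by
        have := hpos hx
        rw [h] at this
        omega
      obtain ⟨e, P, hP⟩ := horb x hx hx2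
      have := w2 ha ha2 hx hx2 hO hP hxO
      have := hpos hx
      have := hP.one_le
      nlinarith
    have hc : ∀ x ∈ E, x ≠ -1 → E.count x ≤ p ^ 0 := fun x hx _ => by
      rw [hE, hO.count x (hall x hx), ← hE, hca1, pow_zero]
    rcases hexp ha hO with h | h
    · -- split torus: the spinor norm halves the order
      have hEO : E = O.val := by
        refine Multiset.ext.2 fun x => ?_
        by_cases hx : x ∈ O
        · rw [hE, hO.count x hx, ← hE, hca1, Multiset.count_eq_one_of_mem O.nodup hx]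
        · rw [Multiset.count_eq_zero_of_notMem (fun h' => hx (hall x h')), Multiset.count_eq_zero_of_notMem hx]
      obtain ⟨b, hb⟩ : ∃ b : Finset K, b = orb a 4 := ⟨_, rfl⟩
      have hbO : b ∪ b.image (·⁻¹) ⊆ O := by
        have hb' : ∀ x ∈ b, x ∈ O ∧ x⁻¹ ∈ O := fun x hx => by
          rw [hb] at hx
          obtain ⟨i, -, rfl⟩ := Finset.mem_image.1 hx
          have h1 : a ^ q ^ i ∈ E := hE ▸ mem_frob M (hE ▸ ha) i
          exact ⟨hall _ h1, hall _ (hE ▸ (Multiset.count_pos.1 (by rw [count_inv M hinv]; exact Multiset.count_pos.2 (hE ▸ h1))))⟩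
        intro x hx
        rcases Finset.mem_union.1 hx with hx | hx
        · exact (hb' x hx).1
        · obtain ⟨y, hy, rfl⟩ := Finset.mem_image.1 hx
          exact (hb' y hy).2
      have hOsub : O ⊆ b ∪ b.image (·⁻¹) := by
        intro x hx
        have hmod : ∀ i, a ^ q ^ i = a ^ q ^ (i % 4) := fun i => by
          have h4 : a ^ q ^ 4 = a := by
            rw [← hQ, ← Nat.sub_add_cancel (Nat.one_le_pow 4 Q (by omega)), pow_succ, h, one_mul]
          conv_lhs => rw [← Nat.mod_add_div i 4]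
          induction i / 4 with
          | zero => simp
          | succ t ih => rw [Nat.mul_succ, ← add_assoc, pow_add q, mul_comm, pow_mul, h4, ih]
        have hm : ∀ i, a ^ q ^ i ∈ b := fun i => by
          rw [hmod, hb]
          exact Finset.mem_image.2 ⟨i % 4, Finset.mem_range.2 (Nat.mod_lt _ (by norm_num)), rfl⟩
        rcases hO.conj x hx with ⟨i, rfl | rfl⟩
        · exact Finset.mem_union_left _ (hm i)
        · exact Finset.mem_union_right _ (Finset.mem_image.2 ⟨_, hm i, rfl⟩)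
      have heqO : b ∪ b.image (·⁻¹) = O := Finset.Subset.antisymm hbO hOsub
      have hbcard : b.card ≤ 4 := by
        rw [hb]; exact Finset.card_image_le.trans (by rw [Finset.card_range])
      have hcards := Finset.card_union_add_card_inter b (b.image (·⁻¹))
      rw [heqO, hO.card, Finset.card_image_of_injective _ inv_injective] at hcards
      have hdj : Disjoint b (b.image (·⁻¹)) := by
        rw [Finset.disjoint_iff_inter_eq_empty, ← Finset.card_eq_zero]
        omega
      have hb4 : b.card = 4 := by omega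
      have hinj : Set.InjOn (fun i => a ^ q ^ i) (Finset.range 4 : Set ℕ) :=
        Finset.injOn_of_card_image_eq (by rw [Finset.card_range]; rw [hb] at hb4; exact hb4)
      obtain ⟨P, hP⟩ : ∃ P : K, P = ∏ i ∈ Finset.range 4, (1 - a ^ q ^ i) := ⟨_, rfl⟩
      have hmain : algebraMap F K (1 - M).det * a ^ (1 + q + q ^ 2 + q ^ 3) = P * P := by
        rw [hprod, hEO]
        show (∏ x ∈ O, (1 - x)) * _ = _
        rw [← heqO, Finset.prod_union hdj, Finset.prod_image fun x _ y _ e => inv_injective e, hb, orb,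
          Finset.prod_image hinj, Finset.prod_image hinj, hP]
        simp only [Finset.prod_range_succ, Finset.prod_range_zero, one_mul, pow_zero, pow_one]
        have hne : ∀ i, a ^ q ^ i ≠ 0 := fun i => pow_ne_zero _ (h0 a ha)
        rw [pow_add, pow_add, pow_add, pow_one]
        have := h0 a ha
        have := hne 1
        have := hne 2
        have := hne 3
        rw [pow_one] at *
        field_simp
        ring
      obtain ⟨s, hs⟩ := hsq
      have hs0 : algebraMap F K s ≠ 0 := fun h' => hdet (by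
        rw [hs, (map_eq_zero (algebraMap F K)).1 h', mul_zero])
      have hPf : P ^ q = P := by
        obtain ⟨p', hp'⟩ := CharP.exists F
        obtain ⟨f, hf', hf⟩ := FiniteField.card F p'
        haveI := Fact.mk hf'
        haveI : CharP K p' := charP_of_injective_algebraMap (algebraMap F K).injective p'
        rw [hP, ← Finset.prod_pow]
        have hstep : ∀ i, (1 - a ^ q ^ i) ^ q = 1 - a ^ q ^ (i + 1) := fun i => by
          rw [hf, sub_pow_char_pow, one_pow, ← pow_mul, ← pow_succ]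
        simp only [hstep]
        simp only [Finset.prod_range_succ, Finset.prod_range_zero, one_mul]
        rw [show a ^ q ^ (3 + 1) = a by
          rw [← hQ, ← Nat.sub_add_cancel (Nat.one_le_pow 4 Q (by omega)), pow_succ, h, one_mul]]
        simp only [zero_add, pow_zero, pow_one]
        ring
      have hzf : (P / algebraMap F K s) ^ (q - 1) = 1 := by
        have hP0 : P / algebraMap F K s ≠ 0 := by
          refine div_ne_zero (fun h' => ?_) hs0
          rw [h', mul_zero] at hmain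
          exact (mul_ne_zero ((_root_.map_ne_zero (algebraMap F K)).2 hdet) (pow_ne_zero _ (h0 a ha))) hmain
        refine mul_right_cancel₀ hP0 ?_
        rw [← pow_succ, Nat.sub_add_cancel Fintype.card_pos, div_pow, hPf, ← map_pow, FiniteField.pow_card, one_mul]
      obtain ⟨t, ht⟩ := (hev 1).1
      rw [pow_one, hQ] at ht
      have hNt : a ^ ((1 + q + q ^ 2 + q ^ 3) * t) = 1 := by
        have h' : a ^ (1 + q + q ^ 2 + q ^ 3) = (P / algebraMap F K s) ^ 2 := by
          rw [div_pow, eq_div_iff (pow_ne_zero _ hs0), sq P, ← hmain, hs, map_mul, sq, mul_comm]; ring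
        rw [pow_mul, h', ← pow_mul, ← ht, hzf]
      have hexpo : (Q ^ 4 - 1) / 2 = (1 + q + q ^ 2 + q ^ 3) * t := by
        have hg : Q ^ 4 - 1 = (1 + Q + Q ^ 2 + Q ^ 3) * (Q - 1) := by
          rw [e4, e2]; ring
        rw [hg, hQ, ht, mul_left_comm, Nat.mul_div_cancel_left _ two_pos]
      refine fin ((Q ^ 4 - 1) / 2) 0 ?_ ?_ (fun x hx hx2 => hO.pow x (hall x hx) _ (hexpo ▸ hNt)) hc (by omega)
        (by rw [pow_zero, mul_one]) (Or.inl (by rw [hQ]))
      · rw [hAeq]; positivity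
      · rw [hAeq]; exact dvd_mul_of_dvd_right hHe.1 _
    · -- the nonsplit torus does not lie in the plus type group
      exfalso
      have hpow : M ^ (Q ^ 4 + 1) = 1 := by
        have := pow_eq_one_refined p h2 hI hu (e := 0) (Nat.succ_pos _) (hev 4).2
          (fun x hx => hO.pow x (hall x (hE ▸ hx)) _ h) (fun x hx2 => by
            by_cases hx : x ∈ E
            · exact hE ▸ hc x hx hx2
            · rw [← hE, Multiset.count_eq_zero_of_notMem hx]; exact Nat.zero_le _) (by rw [← hE]; omega)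
        rwa [pow_zero, mul_one] at this
      obtain ⟨f, hf⟩ : ∃ f : Module.End F (II → F), f = Matrix.toLinAlgEquiv' M := ⟨_, rfl⟩
      have hford : orderOf f = orderOf M := by
        rw [hf]; exact orderOf_injective (Matrix.toLinAlgEquiv' : Matrix II II F ≃ₐ[F] _).toMonoidHom
          (Matrix.toLinAlgEquiv' : Matrix II II F ≃ₐ[F] _).injective M
      have hMpos : 0 < orderOf M := Nat.pos_of_ne_zero fun h' => by
        rw [orderOf_eq_zero_iff] at h'
        exact h' (isOfFinOrder_iff_pow_eq_one.2 ⟨_, Nat.succ_pos _, hpow⟩)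
      have hfree : ∀ i, 0 < i → i < orderOf f → ∀ v, (f ^ i) v = v → v = 0 := by
        intro i hi hlt v hv
        have hai : a ^ i ≠ 1 := fun h' => by
          have hMi : M ^ (i * 2 * p ^ 0) = 1 := pow_eq_one_refined p h2 hI hu (by omega) (dvd_mul_left 2 i)
            (fun x hx => by rw [pow_mul, hO.pow x (hall x (hE ▸ hx)) _ h', one_pow]) (fun x hx2 => by
              by_cases hx : x ∈ E
              · exact hE ▸ hc x hx hx2
              · rw [← hE, Multiset.count_eq_zero_of_notMem hx]; exact Nat.zero_le _) (by rw [← hE]; omega)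
          rw [pow_zero, mul_one, pow_mul] at hMi
          -- `M ^ i` squares to one and the exponent `i` kills every eigenvalue
          have hMi1 : M ^ i = 1 := by
            refine pow_eq_one_of_dvd M (N := i) (h := ((X : K[X]) ^ i - 1)) ?_ (aeval_X_pow_sub_one M i)
            have hne : ((X : K[X]) ^ i - 1) ≠ 0 := by simpa using X_pow_sub_C_ne_zero hi (1 : K)
            rw [Multiset.prod_X_sub_C_dvd_iff_le_roots hne, Multiset.le_iff_count]
            intro x
            by_cases hx : x ∈ E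
            · have hx2 : x ≠ -1 := fun e' => hnot ha ha2 hO (e' ▸ hall x hx)
              have := hc x hx hx2
              rw [pow_zero] at this
              rw [← hE]
              refine le_trans this ?_
              rw [Nat.one_le_iff_ne_zero, ← Nat.pos_iff_ne_zero, Multiset.count_pos, mem_roots hne]
              simp [hO.pow x (hall x hx) _ h']
            · rw [← hE, Multiset.count_eq_zero_of_notMem hx]; exact Nat.zero_le _
          have := Nat.le_of_dvd hi (orderOf_dvd_of_pow_eq_one hMi1)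
          omega
        refine isUnit_pow_sub_one (M := M) hi (fun x hx hxi => hai ?_) (v := v) ?_
        · rcases hO.conj x (hall x (hE ▸ hx)) with ⟨l, rfl | rfl⟩
          · refine frob_iter_injective l ?_
            show (a ^ i) ^ q ^ l = (1 : K) ^ q ^ l
            rw [one_pow, ← pow_mul, mul_comm, pow_mul, hxi]
          · refine frob_iter_injective l ?_
            show (a ^ i) ^ q ^ l = (1 : K) ^ q ^ l
            rw [inv_pow, inv_eq_one] at hxi
            rw [one_pow, ← pow_mul, mul_comm, pow_mul, hxi]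
        · rw [hf, ← map_pow, Matrix.toLinAlgEquiv'_apply] at hv
          exact hv
      have hd := dvd_singular f (fun v => by rw [hf, Matrix.toLinAlgEquiv'_apply]; exact hI v) (hford ▸ hMpos) hfree
      rw [hford] at hd
      obtain ⟨t, ht⟩ : ∃ t : ℤ, t = (orderOf M : ℤ) := ⟨_, rfl⟩
      rw [← ht] at hd
      have hd1 : t ∣ (q : ℤ) ^ 4 + 1 := by
        rw [ht, ← hQ]; exact_mod_cast orderOf_dvd_of_pow_eq_one hpow
      have hd2 : t ∣ 2 * ((q : ℤ) ^ 3 + 1) := by
        have := dvd_sub (hd1.mul_right ((q : ℤ) ^ 3 + 1)) hd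
        rwa [← sub_mul, show (q : ℤ) ^ 4 + 1 - ((q : ℤ) ^ 4 - 1) = 2 by ring] at this
      have hd3 : t ∣ 2 * ((q : ℤ) - 1) := by
        have := dvd_sub (hd2.mul_right (q : ℤ)) (hd1.mul_left 2)
        rwa [show 2 * ((q : ℤ) ^ 3 + 1) * q - 2 * ((q : ℤ) ^ 4 + 1) = 2 * ((q : ℤ) - 1) by ring] at this
      have hd4 : t ∣ 4 := by
        have := dvd_sub (hd1.mul_left 2) (hd3.trans (Dvd.intro (((q : ℤ) + 1) * ((q : ℤ) ^ 2 + 1))
          (by ring : 2 * ((q : ℤ) - 1) * (((q : ℤ) + 1) * ((q : ℤ) ^ 2 + 1)) = 2 * ((q : ℤ) ^ 4 - 1))))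
        rwa [show 2 * ((q : ℤ) ^ 4 + 1) - 2 * ((q : ℤ) ^ 4 - 1) = 4 by ring] at this
      have hM4 : orderOf M ∣ 4 := by rw [ht] at hd4; exact_mod_cast hd4
      have hM1 : orderOf M ∣ Q ^ 4 + 1 := orderOf_dvd_of_pow_eq_one hpow
      have hM2 : orderOf M ∣ 2 := by
        have hmod : (Q ^ 4 + 1) % 4 = 2 := by
          rw [Nat.add_mod, Nat.pow_mod]
          obtain ⟨i, hi⟩ := hQo
          rcases (show Q % 4 = 1 ∨ Q % 4 = 3 by omega) with h' | h' <;> rw [h']
        have h' := Nat.dvd_gcd hM4 hM1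
        rwa [Nat.gcd_rec, hmod, show Nat.gcd 2 4 = 2 from rfl] at h'
      have ha' : a ^ 2 = 1 := pow_of_mem M (orderOf_dvd_iff_pow_eq_one.1 hM2) (hE ▸ ha)
      rcases sq_eq_one_iff.1 ha' with h' | h'
      · exact h1ne a ha h'
      · exact ha2 h'
  push Not at hex4
  by_cases hex3 : ∃ a ∈ E, a ≠ -1 ∧ ∃ O, OrbData M a 3 O
  · obtain ⟨a, ha, ha2, O, hO⟩ := hex3
    have hw := w1 ha ha2 hO
    have hca := hpos ha
    have hca1 : E.count a = 1 := by omega
    have hoth : ∀ x ∈ E, x ≠ -1 → x ∉ O → E.count x = 1 ∧ (x ^ (Q - 1) = 1 ∨ x ^ (Q + 1) = 1) := fun x hx hx2 hxO => by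
      obtain ⟨e, P, hP⟩ := horb x hx hx2
      have := w2 ha ha2 hx hx2 hO hP hxO
      have := hpos hx
      have := hP.one_le
      have he : e = 1 := by nlinarith
      subst he
      refine ⟨by omega, ?_⟩
      have := hexp hx hP
      rwa [pow_one] at this
    have hc : ∀ x ∈ E, x ≠ -1 → E.count x ≤ p ^ 0 := fun x hx hx2 => by
      rw [pow_zero]
      by_cases hxO : x ∈ O
      · rw [hE, hO.count x hxO, ← hE, hca1]
      · rw [(hoth x hx hx2 hxO).1]
    rcases hexp ha hO with h | h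
    · refine fin (Nat.lcm (Q ^ 3 - 1) (Q + 1)) 0 (Nat.lcm_pos (by have := hpowle 3 (by norm_num); omega) (by omega))
        ((hev 3).1.trans (Nat.dvd_lcm_left _ _)) (fun x hx hx2 => ?_) hc (by rw [pow_zero]; omega) (by rw [pow_zero, mul_one])
        (Or.inr (Or.inl (by rw [hQ])))
      by_cases hxO : x ∈ O
      · exact pow_of_dvd (Nat.dvd_lcm_left _ _) (hO.pow x hxO _ h)
      · rcases (hoth x hx hx2 hxO).2 with h' | h'
        · exact pow_of_dvd ((by simpa using Nat.sub_dvd_pow_sub_pow Q 1 3 : Q - 1 ∣ Q ^ 3 - 1).trans (Nat.dvd_lcm_left _ _)) h'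
        · exact pow_of_dvd (Nat.dvd_lcm_right _ _) h'
    · refine fin (Nat.lcm (Q ^ 3 + 1) (Q - 1)) 0 (Nat.lcm_pos (by omega) (by omega))
        ((hev 3).2.trans (Nat.dvd_lcm_left _ _)) (fun x hx hx2 => ?_) hc (by rw [pow_zero]; omega) (by rw [pow_zero, mul_one])
        (Or.inr (Or.inr (Or.inl (by rw [hQ]))))
      by_cases hxO : x ∈ O
      · exact pow_of_dvd (Nat.dvd_lcm_left _ _) (hO.pow x hxO _ h)
      · rcases (hoth x hx hx2 hxO).2 with h' | h'
        · exact pow_of_dvd (Nat.dvd_lcm_right _ _) h'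
        · exact pow_of_dvd ((by simpa using Odd.nat_add_dvd_pow_add_pow Q 1 (n := 3) (by decide) : Q + 1 ∣ Q ^ 3 + 1).trans
            (Nat.dvd_lcm_left _ _)) h'
  push Not at hex3
  have hd2 : ∀ x ∈ E, x ≠ -1 → ∀ d O, OrbData M x d O → d = 1 ∨ d = 2 := fun x hx hx2 d O hO => by
    have := hex4 x hx hx2 d O hO
    have := hO.one_le
    have h3 : d ≠ 3 := fun h3 => hex3 x hx hx2 O (h3 ▸ hO)
    omega
  have hE5 : (Q ^ 2 - 1) / 2 ∣ Q ^ 2 - 1 := Nat.div_dvd_of_dvd (hev 2).1
  by_cases hhalf : ∀ x ∈ E, x ≠ -1 → x ^ H = 1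
  · have hcnt : ∀ x ∈ E, x ≠ -1 → E.count x ≤ 4 := fun x hx hx2 => by
      obtain ⟨d, O, hO⟩ := horb x hx hx2
      have := w1 hx hx2 hO
      have := hO.one_le
      nlinarith
    by_cases hp3' : p = 3
    · refine fin H 2 hH0 hHe.1 hhalf (fun x hx hx2 => le_trans (hcnt x hx hx2) (by rw [hp3']; norm_num)) ?_ dvd_rfl
        (Or.inr (Or.inr (Or.inr (Or.inr (Or.inr (Or.inr (Or.inl ⟨hp3', ?_⟩)))))))
      · have h8 := hle {-1}
        rw [Finset.sum_singleton] at h8
        exact le_trans h8 (by rw [hp3']; norm_num)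
      · rw [← hQ, hEeq, hp3', mul_comm]; norm_num
    · have hp5 : 5 ≤ p := by
        have h4 : p ≠ 4 := fun h' => by rw [h'] at hp; exact absurd hp (by norm_num)
        omega
      have hc8 := hle {-1}
      rw [Finset.sum_singleton] at hc8
      by_cases hbad : p = 5 ∧ E.count (-1 : K) = 8
      · obtain ⟨h5, h8⟩ := hbad
        have hall : ∀ x ∈ E, x ≠ -1 → False := fun x hx hx2 => by
          obtain ⟨d, O, hO⟩ := horb x hx hx2
          have := w1 hx hx2 hO
          have := hpos hx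
          have := hO.one_le
          nlinarith
        exact fin 2 2 two_pos dvd_rfl (fun x hx hx2 => (hall x hx hx2).elim) (fun x hx hx2 => (hall x hx hx2).elim)
          (by rw [h8, h5]; norm_num) dvd_rfl (Or.inr (Or.inr (Or.inr (Or.inr (Or.inr (Or.inr (Or.inr ⟨h5, by rw [h5]; norm_num⟩)))))))
      · refine fin H 1 hH0 hHe.1 hhalf (fun x hx hx2 => le_trans (hcnt x hx hx2) (by rw [pow_one]; omega)) ?_ ?_
          (Or.inr (Or.inr (Or.inr (Or.inr (Or.inr (Or.inl rfl))))))
        · rw [pow_one]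
          obtain ⟨t, ht⟩ := hceven
          have hp6 : p ≠ 6 := fun h' => by rw [h'] at hp; exact absurd hp (by norm_num)
          rw [not_and] at hbad
          rcases Nat.lt_or_ge p 7 with h7 | h7
          · have := hbad (by omega)
            omega
          · omega
        · rw [pow_one, mul_comm H, ← hQ]
          exact mul_dvd_mul_left p (hEeq ▸ hE5)
  push Not at hhalf
  obtain ⟨a, ha, ha2, haN⟩ := hhalf
  obtain ⟨d, O, hO⟩ := horb a ha ha2
  obtain rfl : d = 2 := by
    rcases hd2 a ha ha2 d O hO with rfl | rfl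
    · refine absurd ?_ haN
      rcases hexp ha hO with h | h <;> rw [pow_one] at h
      · exact pow_of_dvd hHe.2.1 h
      · exact pow_of_dvd hHe.2.2 h
    · rfl
  have hw := w1 ha ha2 hO
  have hca := hpos ha
  have hcnt : ∀ x ∈ E, x ≠ -1 → E.count x ≤ 2 := fun x hx hx2 => by
    by_cases hxO : x ∈ O
    · rw [hE, hO.count x hxO, ← hE]; omega
    · obtain ⟨e, P, hP⟩ := horb x hx hx2
      have := w2 ha ha2 hx hx2 hO hP hxO
      have := hP.one_le
      nlinarith
  have hc1 : E.count (-1 : K) ≤ p ^ 1 + 1 := by rw [pow_one]; omega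
  have hc : ∀ x ∈ E, x ≠ -1 → E.count x ≤ p ^ 1 := fun x hx hx2 => le_trans (hcnt x hx hx2) (by rw [pow_one]; omega)
  by_cases hminus : ∀ x ∈ E, x ≠ -1 → x ^ (Q ^ 2 - 1) = 1
  · exact fin (Q ^ 2 - 1) 1 (by omega) (hev 2).1 hminus hc hc1 (by rw [pow_one, mul_comm, hQ])
      (Or.inr (Or.inr (Or.inr (Or.inr (Or.inr (Or.inl rfl))))))
  push Not at hminus
  obtain ⟨a, ha, ha2, haM⟩ := hminus
  obtain ⟨d, O, hO⟩ := horb a ha ha2
  obtain rfl : d = 2 := by
    rcases hd2 a ha ha2 d O hO with rfl | rfl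
    · refine absurd ?_ haM
      rcases hexp ha hO with h | h <;> rw [pow_one] at h
      · exact pow_of_dvd (hHe.2.1.trans ⟨2, by rw [hH, mul_comm]⟩) h
      · exact pow_of_dvd (hHe.2.2.trans ⟨2, by rw [hH, mul_comm]⟩) h
    · rfl
  have haP : a ^ (Q ^ 2 + 1) = 1 := (hexp ha hO).resolve_left haM
  have hca := hpos ha
  have hA : ∀ x ∈ E, x ≠ -1 → x ^ (Q ^ 2 + 1) = 1 ∨ x ^ (Q ^ 2 - 1) = 1 := fun x hx hx2 => by
    obtain ⟨e, P, hP⟩ := horb x hx hx2
    rcases hd2 x hx hx2 e P hP with rfl | rfl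
    · rcases hexp hx hP with h | h <;> rw [pow_one] at h
      · exact Or.inr (pow_of_dvd (hHe.2.1.trans ⟨2, by rw [hH, mul_comm]⟩) h)
      · exact Or.inr (pow_of_dvd (hHe.2.2.trans ⟨2, by rw [hH, mul_comm]⟩) h)
    · exact (hexp hx hP).symm
  have hAfin : (∀ x ∈ E, x ≠ -1 → E.count x ≤ p ^ 0) → E.count (-1 : K) ≤ p ^ 0 + 1 →
      ∃ N, IsTarget p q N ∧ M ^ N = 1 := fun h1 h3 => by
    refine fin ((Q ^ 4 - 1) / 2) 0 ?_ ?_ (fun x hx hx2 => ?_) h1 h3 (by rw [pow_zero, mul_one]) (Or.inl (by rw [hQ]))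
    · rw [hAeq]; positivity
    · rw [hAeq]; exact dvd_mul_of_dvd_right hHe.1 _
    · rw [hAeq]
      rcases hA x hx hx2 with h | h
      · exact pow_of_dvd (dvd_mul_right _ _) h
      · refine pow_of_dvd ?_ h
        rw [hH, mul_comm 2 H, mul_comm _ H]
        exact mul_dvd_mul_left H (hev 2).2
  -- the rest of the eigenvalues
  by_cases hplus : ∀ x ∈ E, x ≠ -1 → x ∈ O ∨ x ^ (Q - 1) = 1
  · refine fin (Nat.lcm (Q ^ 2 + 1) (Q - 1)) 1 (Nat.lcm_pos (by omega) (by omega))
      ((hev 2).2.trans (Nat.dvd_lcm_left _ _)) (fun x hx hx2 => ?_) hc hc1 (by rw [pow_one, mul_comm, hQ])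
      (Or.inr (Or.inr (Or.inr (Or.inl rfl))))
    rcases hplus x hx hx2 with h | h
    · exact pow_of_dvd (Nat.dvd_lcm_left _ _) (hO.pow x h _ haP)
    · exact pow_of_dvd (Nat.dvd_lcm_right _ _) h
  by_cases hmin : ∀ x ∈ E, x ≠ -1 → x ∈ O ∨ x ^ (Q + 1) = 1
  · refine fin (Nat.lcm (Q ^ 2 + 1) (Q + 1)) 1 (Nat.lcm_pos (by omega) (by omega))
      ((hev 2).2.trans (Nat.dvd_lcm_left _ _)) (fun x hx hx2 => ?_) hc hc1 (by rw [pow_one, mul_comm, hQ])
      (Or.inr (Or.inr (Or.inr (Or.inr (Or.inl rfl)))))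
    rcases hmin x hx hx2 with h | h
    · exact pow_of_dvd (Nat.dvd_lcm_left _ _) (hO.pow x h _ haP)
    · exact pow_of_dvd (Nat.dvd_lcm_right _ _) h
  push Not at hplus hmin
  obtain ⟨b, hb, hb2, hbO, hbq⟩ := hplus
  obtain ⟨c, hc', hc2, hcO, hcq⟩ := hmin
  obtain ⟨e, P, hP⟩ := horb b hb hb2
  have hw2 := w2 ha ha2 hb hb2 hO hP hbO
  have hcb := hpos hb
  have he := hP.one_le
  refine hAfin (fun x hx hx2 => ?_) ?_
  · rw [pow_zero]
    rcases hd2 b hb hb2 e P hP with rfl | rfl
    · -- two further short orbits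
      have hbq' : b ^ (Q + 1) = 1 := by
        rcases hexp hb hP with h | h <;> rw [pow_one] at h
        · exact absurd h hbq
        · exact h
      have hcP : c ∉ P := fun h => hcq (hP.pow c h _ hbq')
      obtain ⟨g, R, hR⟩ := horb c hc' hc2
      have hw3 := w3 ha ha2 hb hb2 hc' hc2 hO hP hR hbO hcO hcP
      have := hpos hc'
      have := hR.one_le
      have hg : g = 1 := by nlinarith
      subst hg
      by_cases hxO : x ∈ O
      · rw [hE, hO.count x hxO, ← hE]; omega
      by_cases hxP : x ∈ P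
      · rw [hE, hP.count x hxP, ← hE]; omega
      by_cases hxR : x ∈ R
      · rw [hE, hR.count x hxR, ← hE]; omega
      exfalso
      obtain ⟨g', R', hR'⟩ := horb x hx hx2
      have h4 := hle (O ∪ P ∪ R ∪ R')
      rw [Finset.sum_union (Finset.disjoint_union_left.2 ⟨Finset.disjoint_union_left.2 ⟨hdisj hx hO hR' hxO,
          hdisj hx hP hR' hxP⟩, hdisj hx hR hR' hxR⟩),
        Finset.sum_union (Finset.disjoint_union_left.2 ⟨hdisj hc' hO hR hcO, hdisj hc' hP hR hcP⟩),
        Finset.sum_union (hdisj hb hO hP hbO), hsum hO, hsum hP, hsum hR, hsum hR'] at h4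
      have := hpos hx
      have := hR'.one_le
      nlinarith
    · by_cases hxO : x ∈ O
      · rw [hE, hO.count x hxO, ← hE]; omega
      by_cases hxP : x ∈ P
      · rw [hE, hP.count x hxP, ← hE]; omega
      exfalso
      obtain ⟨g', R', hR'⟩ := horb x hx hx2
      have := w3 ha ha2 hb hb2 hx hx2 hO hP hR' hbO hxO hxP
      have := hpos hx
      have := hR'.one_le
      nlinarith
  · rw [pow_zero]
    have : e * E.count b ≥ 1 := Nat.mul_pos he hcb
    nlinarith

end CfsgLib.Classical.OrthNineSpec
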