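import Mathlib
import Cfsg.Agent.Lib.Classical.OrthNineSpec.Bound

/-!
# Orders in `Ω(9)` and in the natural semidirect product of `Ω⁻(8)`
-/

set_option autoImplicit false
set_option linter.all false

namespace CfsgLib.Classical.OrthNineSpec

open Matrix CfsgLib.Classical CfsgLib.Orth Cfsg.Geo CfsgLib.Perm.Elusive

variable {F : Type*} [Field F] [Fintype F]

local notation "pol" => QuadraticMap.polar
local notation "I9" => Unit ⊕ (Fin 4 ⊕ Fin 4)
local notation "II" => Fin 4 ⊕ Fin 4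
local notation "P9" => Cfsg.quadFormOdd 4 F
local notation "O9" => Cfsg.isometryGroup F (Cfsg.quadFormOdd 4 F)

/-- Witt's theorem for single vectors -/
theorem exists_move (h2 : (2 : F) ≠ 0) {c c' : I9 → F} {t : F} (ht : t ≠ 0) (hc : P9 c = t) (hc' : P9 c' = t) :
    ∃ h : ↥O9, isoEnd P9 h c = c' := by
  have hP : (QuadraticMap.polarBilin (oddQ 4 F)).Nondegenerate := oddQ_nondeg h2 4
  have hc0 : c ≠ 0 := fun h => ht (by rw [← hc, h]; simp [Cfsg.quadFormOdd])
  have hc0' : c' ≠ 0 := fun h => ht (by rw [← hc', h]; simp [Cfsg.quadFormOdd])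
  let lin := LinearEquiv.toSpanNonzeroSingleton F (I9 → F) c hc0
  obtain ⟨φ, hφ⟩ : ∃ φ : (Submodule.span F ({c} : Set (I9 → F))) →ₗ[F] (I9 → F), ∀ r, φ (lin r) = r • c' :=
    ⟨(LinearMap.toSpanSingleton F (I9 → F) c') ∘ₗ lin.symm.toLinearMap, fun r => by simp⟩
  obtain ⟨g, hg, hgX⟩ := CfsgLib.Perm.Trans.Witt.witt_extension hP _ φ (fun x y hxy => by
    obtain ⟨r, rfl⟩ := lin.surjective x
    obtain ⟨r', rfl⟩ := lin.surjective y
    rw [hφ, hφ] at hxy
    rw [smul_left_injective F hc0' hxy]) (fun x => by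
    obtain ⟨r, rfl⟩ := lin.surjective x
    rw [hφ, show ((lin r : Submodule.span F ({c} : Set (I9 → F))) : I9 → F) = r • c from rfl, QuadraticMap.map_smul,
      QuadraticMap.map_smul, oddQ_coe, hc', hc])
  obtain ⟨h, hh⟩ := exists_iso (Q := P9) g.toLinearMap (fun v => by rw [← oddQ_coe]; exact hg v)
    ((LinearMap.isUnit_iff_ker_eq_bot _).2 (LinearMap.ker_eq_bot.2 g.injective))
  refine ⟨h, ?_⟩
  have h1 := hgX (lin 1)
  rw [hφ, one_smul, show ((lin 1 : Submodule.span F ({c} : Set (I9 → F))) : I9 → F) = (1 : F) • c from rfl,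
    one_smul] at h1
  rw [hh]; exact h1

/-- an element fixing the first basis vector and nothing else -/
theorem exists_target_of_fix (p : ℕ) [Fact p.Prime] [CharP F p] (h2 : (2 : F) ≠ 0) {g : ↥O9}
    (hg : g ∈ Cfsg.Omega F P9) (hfe : isoEnd P9 g (Pi.single (Sum.inl ()) 1) = Pi.single (Sum.inl ()) 1)
    (hfix : ∀ w : II → F, isoEnd P9 g (Sum.elim (0 : Unit → F) w) = Sum.elim (0 : Unit → F) w → w = 0) :
    ∃ N, IsTarget p (Fintype.card F) N ∧ g ^ N = 1 := by
  classical
  obtain ⟨e₀, he⟩ : ∃ e₀ : I9 → F, e₀ = Pi.single (Sum.inl ()) 1 := ⟨_, rfl⟩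
  rw [← he] at hfe
  have hpol : ∀ y : I9 → F, pol P9 y e₀ = 2 * y (Sum.inl ()) := fun y => by
    simp [he, QuadraticMap.polar, Cfsg.quadFormOdd, Pi.single_apply]
    ring
  have hperp : ∀ w : II → F, isoEnd P9 g (Sum.elim (0 : Unit → F) w) (Sum.inl ()) = 0 := fun w => by
    have h1 : pol P9 (isoEnd P9 g (Sum.elim (0 : Unit → F) w)) (isoEnd P9 g e₀) = pol P9 (Sum.elim (0 : Unit → F) w) e₀ := by
      simp only [QuadraticMap.polar, ← map_add, isoEnd_isom]
    rw [hfe, hpol, hpol, Sum.elim_inl, Pi.zero_apply, mul_zero] at h1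
    exact (mul_eq_zero.1 h1).resolve_left h2
  obtain ⟨M, hM⟩ : ∃ M : Matrix II II F, M = (g.1 : Matrix I9 I9 F).submatrix Sum.inr Sum.inr := ⟨_, rfl⟩
  have hblock : ∀ w : II → F, isoEnd P9 g (Sum.elim (0 : Unit → F) w) = Sum.elim (0 : Unit → F) (M *ᵥ w) := fun w => by
    funext i
    rcases i with i | i
    · exact hperp w
    · rw [isoEnd_apply, Sum.elim_inr, hM]
      simp [Matrix.mulVec, dotProduct]
  have hpow : ∀ (k : ℕ) (w : II → F), isoEnd P9 (g ^ k) (Sum.elim (0 : Unit → F) w) = Sum.elim (0 : Unit → F) ((M ^ k) *ᵥ w) := fun k => by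
    induction k with
    | zero => intro w; simp
    | succ k ih =>
      intro w
      rw [pow_succ', pow_succ', map_mul, Module.End.mul_apply, ih, hblock, Matrix.mulVec_mulVec]
  have hI : ∀ v, Cfsg.quadFormPlus 4 F (M *ᵥ v) = Cfsg.quadFormPlus 4 F v := fun v => by
    have h := isoEnd_isom g (Sum.elim (0 : Unit → F) v)
    rw [hblock] at h
    simpa [Cfsg.quadFormOdd, Cfsg.quadFormPlus] using h
  have hfix' : ∀ v, M *ᵥ v = v → v = 0 := fun v hv => hfix v (by rw [hblock, hv])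
  have hu : IsUnit M := by
    rw [← Matrix.mulVec_injective_iff_isUnit]
    intro x y hxy
    have h1 : isoEnd P9 g (Sum.elim (0 : Unit → F) x) = isoEnd P9 g (Sum.elim (0 : Unit → F) y) := by rw [hblock, hblock]; exact congrArg _ hxy
    have h3 := congrArg (isoEnd P9 g⁻¹) h1
    rw [← Module.End.mul_apply, ← Module.End.mul_apply, ← map_mul, inv_mul_cancel, map_one] at h3
    exact funext fun i => congrFun h3 (Sum.inr i)
  -- the spinor norm is the determinant of `1 - M`
  have hQ := odd_nd (F := F) h2 4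
  obtain ⟨σ, -⟩ : ∃ σ : Fin 8 ≃ II, True := ⟨(finCongr (by simp)).trans (Fintype.equivFin II).symm, trivial⟩
  obtain ⟨w, hw⟩ : ∃ w : Fin 8 → I9 → F, w = fun i => Sum.elim (0 : Unit → F) (Pi.single (σ i) 1) := ⟨_, rfl⟩
  have hdisp : ∀ v : II → F, disp g.1 (Sum.elim (0 : Unit → F) v) = Sum.elim (0 : Unit → F) ((1 - M) *ᵥ v) := fun v => by
    rw [disp_apply, ← isoEnd_apply, hblock, Matrix.sub_mulVec, Matrix.one_mulVec]
    funext i; rcases i with i | i <;> simp
  have hinj : Function.Injective fun v : II → F => (1 - M) *ᵥ v := fun x y h => by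
    refine sub_eq_zero.1 (hfix' _ ?_)
    have h1 : (1 - M) *ᵥ (x - y) = 0 := by rw [Matrix.mulVec_sub]; exact sub_eq_zero.2 h
    rw [Matrix.sub_mulVec, Matrix.one_mulVec, sub_eq_zero] at h1
    exact h1.symm
  obtain ⟨Lw, hLw⟩ : ∃ Lw : (II → F) →ₗ[F] (I9 → F), ∀ v, Lw v = Sum.elim (0 : Unit → F) ((1 - M) *ᵥ v) :=
    ⟨({ toFun := fun v => Sum.elim (0 : Unit → F) v
        map_add' := fun x y => by funext i; rcases i with i | i <;> simp
        map_smul' := fun c x => by funext i; rcases i with i | i <;> simp } : (II → F) →ₗ[F] (I9 → F)) ∘ₗ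
      Matrix.mulVecLin (1 - M), fun v => rfl⟩
  have hLwinj : LinearMap.ker Lw = ⊥ := LinearMap.ker_eq_bot.2 fun x y h => hinj (funext fun i => by
    rw [hLw, hLw] at h
    exact congrFun h (Sum.inr i))
  have hspan : Submodule.span F (Set.range fun i => (Pi.single (σ i) 1 : II → F)) = ⊤ := by
    rw [show (fun i => (Pi.single (σ i) 1 : II → F)) = (fun j : II => (Pi.single j 1 : II → F)) ∘ σ from rfl,
      Set.range_comp, σ.range_eq_univ, Set.image_univ]
    convert (Pi.basisFun F II).span_eq using 3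
    funext j
    simp
  have hdw : (fun i => disp g.1 (w i)) = Lw ∘ fun i => (Pi.single (σ i) 1 : II → F) := funext fun i => by
    rw [Function.comp_apply, hLw, hw, hdisp]
  obtain ⟨-, hspn⟩ := spn_eq_det hQ g.2 (g := g.1) (w := w) (by
    rw [hdw]
    refine LinearIndependent.map' ?_ Lw hLwinj
    have := (Pi.basisFun F II).linearIndependent.comp σ σ.injective
    simpa [Function.comp_def] using this) (by
    rintro _ ⟨x, rfl⟩
    rw [hdw, Set.range_comp, ← Submodule.map_span, hspan, Submodule.map_top]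
    refine ⟨x ∘ Sum.inr, ?_⟩
    rw [hLw, ← hdisp]
    have hx : x = Sum.elim (0 : Unit → F) (x ∘ Sum.inr) + x (Sum.inl ()) • e₀ := by
      funext i; rcases i with i | i <;> simp [he]
    conv_rhs => rw [hx, map_add, map_smul]
    rw [show disp g.1 e₀ = 0 by rw [disp_apply, ← isoEnd_apply, hfe, sub_self], smul_zero, add_zero])
  rw [((mem_omega_iff hQ (by simp) (hex_of_two h2) g).1 hg).1] at hspn
  obtain ⟨G, hG⟩ : ∃ G : Matrix II II F, G = Matrix.fromBlocks 0 1 1 0 := ⟨_, rfl⟩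
  have hGd : G.det = 1 := by
    rw [hG, det_swapBlocks, Fintype.card_fin]; norm_num
  have hwall : wallMat P9 g.1 w = (G * (1 - M)).submatrix σ σ := by
    ext i j
    rw [wallMat, Matrix.of_apply, congrFun hdw j, Function.comp_apply, hLw, hw, Matrix.submatrix_apply, Matrix.mul_apply]
    have hp : ∀ u v : II → F, pol P9 (Sum.elim (0 : Unit → F) u) (Sum.elim (0 : Unit → F) v) = u ⬝ᵥ (G *ᵥ v) := fun u v => by
      rw [hG, Matrix.fromBlocks_mulVec]
      simp only [QuadraticMap.polar, Cfsg.quadFormOdd, Pi.add_apply, dotProduct, Fintype.sum_sum_type, Sum.elim_inl,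
        Sum.elim_inr, Matrix.zero_mulVec, Matrix.one_mulVec, zero_add, add_zero, Function.comp_apply, Pi.zero_apply]
      simp only [ne_eq, OfNat.ofNat_ne_zero, not_false_eq_true, zero_pow, zero_add, ← Finset.sum_sub_distrib,
        ← Finset.sum_add_distrib]
      exact Finset.sum_congr rfl fun i _ => by ring
    rw [hp, Matrix.mulVec_mulVec, single_dotProduct, one_mul, Matrix.mulVec_single_one]
    rfl
  rw [hwall, Matrix.det_submatrix_equiv_self, Matrix.det_mul, hGd, one_mul] at hspn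
  have hdet0 : (1 - M).det ≠ 0 := by
    rw [← isUnit_iff_ne_zero, ← Matrix.isUnit_iff_isUnit_det, ← Matrix.mulVec_injective_iff_isUnit]
    exact hinj
  obtain ⟨N, hN, hMN⟩ := exists_target p h2 hI hu hfix' ((sqc_eq_one_iff hdet0).1 hspn.symm)
  refine ⟨N, hN, isoEnd_injective P9 (LinearMap.ext fun x => ?_)⟩
  have hx : x = Sum.elim (0 : Unit → F) (x ∘ Sum.inr) + x (Sum.inl ()) • e₀ := by
    funext i; rcases i with i | i <;> simp [he]
  have hek : ∀ k : ℕ, isoEnd P9 (g ^ k) e₀ = e₀ := fun k => by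
    induction k with
    | zero => simp
    | succ k ih => rw [pow_succ', map_mul, Module.End.mul_apply, ih, hfe]
  rw [hx, map_add, map_smul, hpow, hMN, hek, Matrix.one_mulVec]
  simp

variable (p : ℕ) [Fact p.Prime] [CharP F p] {a b : F}

theorem rh_of_r9 (h2 : (2 : F) ≠ 0) (hp2 : p ≠ 2)
    (hab : ∀ z₁ z₂ : F, z₁ ^ 2 + a * z₁ * z₂ + b * z₂ ^ 2 = 0 → z₁ = 0 ∧ z₂ = 0)
    {z : ↥O9} (hz : z ∈ Cfsg.Omega F P9) : RH p a b (orderOf z) := by
  classical
  obtain ⟨D⟩ := exists_split p (isoEnd P9 z) (by rw [orderOf_isoEnd]; exact orderOf_pos z)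
  obtain ⟨E⟩ := exists_emb h2 hab
  have hd := dd_ne h2 hab
  by_cases hcls : ∃ c, D.s c = c ∧ P9 c = dd a b
  · obtain ⟨c, hc1, hc2⟩ := hcls
    exact rh_of_class p h2 hp2 hd E hz D hc1 hc2
  by_cases h3 : 3 ≤ Module.finrank F (LinearMap.ker (D.s - 1))
  · exact rh_of_big p h2 hp2 hab hz D h3
  have hss : D.s ^ D.m = 1 := by have := pow_orderOf_eq_one D.s; rwa [D.order_s] at this
  have hm : (D.m : F) ≠ 0 := fun e => D.not_dvd ((CharP.cast_eq_zero_iff F p D.m).1 e)
  have hu : D.u ^ p ^ D.b = 1 := by have := pow_orderOf_eq_one D.u; rwa [D.order_u] at this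
  have hIs := (D.isom (P := oddQ 4 F) (fun v => by rw [oddQ_coe]; exact isoEnd_isom z v)).1
  obtain ⟨k, hk⟩ := D.s_pow
  have hodd : Odd (Module.finrank F (LinearMap.ker (D.s - 1))) := by
    rw [← Nat.not_even_iff_odd, hk, ← map_pow, fixed_parity (odd_nd h2 4) (by simp) h2 (Subgroup.pow_mem _ hz k)]
    simp [parity_simps]
  have h1 : Module.finrank F (LinearMap.ker (D.s - 1)) = 1 := by obtain ⟨i, hi⟩ := hodd; omega
  obtain ⟨⟨c₁, hc₁⟩, hc₁0, hc₁top⟩ := (finrank_eq_one_iff').1 h1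
  have hsc : D.s c₁ = c₁ := by
    rw [LinearMap.mem_ker, LinearMap.sub_apply, Module.End.one_apply, sub_eq_zero] at hc₁
    exact hc₁
  have hC : ∀ v, D.s v = v → ∃ r : F, v = r • c₁ := fun v hv => by
    obtain ⟨r, hr⟩ := hc₁top ⟨v, by rw [LinearMap.mem_ker, LinearMap.sub_apply, Module.End.one_apply, hv, sub_self]⟩
    exact ⟨r, (congrArg Subtype.val hr).symm⟩
  have hP1 : oddQ 4 F c₁ ≠ 0 := fun h0 => by
    have hq := (qnd_iff _ _).1 (fixed_qnd hss hm (oddQ_nondeg h2 4) hIs) c₁ hc₁ (fun e => hc₁0 (Subtype.ext e))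
    obtain ⟨v, hv, hne⟩ := hq
    obtain ⟨r, rfl⟩ := hC v (by
      rw [LinearMap.mem_ker, LinearMap.sub_apply, Module.End.one_apply, sub_eq_zero] at hv; exact hv)
    exact hne (by rw [QuadraticMap.polar_smul_right, QuadraticMap.polar_self, h0, nsmul_zero, smul_zero])
  rw [oddQ_coe] at hP1
  have hsqP : IsSquare (P9 c₁) := by
    by_contra hns
    obtain ⟨r, hr⟩ : IsSquare (dd a b * P9 c₁) := by
      rw [← sqc_eq_one_iff (mul_ne_zero hd hP1), sqc_mul hd hP1,
        sqClass_eq h2 (fun h => dd_not_square h2 hab ((sqc_eq_one_iff hd).1 h)) (fun h => hns ((sqc_eq_one_iff hP1).1 h)),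
        sqc_mul_self hP1]
    refine hcls ⟨(r / P9 c₁) • c₁, by rw [map_smul, hsc], ?_⟩
    rw [← oddQ_coe, QuadraticMap.map_smul, oddQ_coe, smul_eq_mul]
    field_simp
    linear_combination -hr
  obtain ⟨r, hr⟩ := hsqP
  have hr0 : r ≠ 0 := fun e => hP1 (by rw [hr, e, mul_zero])
  obtain ⟨c, hc⟩ : ∃ c, c = r⁻¹ • c₁ := ⟨_, rfl⟩
  have hc1 : P9 c = 1 := by
    rw [hc, ← oddQ_coe, QuadraticMap.map_smul, oddQ_coe, hr, smul_eq_mul]
    field_simp
  have hscc : D.s c = c := by rw [hc, map_smul, hsc]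
  have hC' : ∀ v, D.s v = v → ∃ t : F, v = t • c := fun v hv => by
    obtain ⟨t, rfl⟩ := hC v hv
    exact ⟨t * r, by rw [hc, smul_smul, mul_assoc, mul_inv_cancel₀ hr0, mul_one]⟩
  have hc0 : c ≠ 0 := fun e => one_ne_zero (α := F) (by rw [← hc1, e]; simp [Cfsg.quadFormOdd])
  obtain ⟨l, hl⟩ := hC' (D.u c) (by rw [← Module.End.mul_apply, D.comm.eq, Module.End.mul_apply, hscc])
  have hl1 : l = 1 := by
    have hpow : ∀ i : ℕ, (D.u ^ i) c = l ^ i • c := fun i => by
      induction i with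
      | zero => simp
      | succ i ih => rw [pow_succ', Module.End.mul_apply, ih, map_smul, hl, smul_smul, pow_succ]
    have h := hpow (p ^ D.b)
    rw [hu, Module.End.one_apply] at h
    have hlp : l ^ p ^ D.b = 1 := (smul_left_injective F hc0 (show (1 : F) • c = l ^ p ^ D.b • c by rw [one_smul]; exact h)).symm
    have h5 := sub_pow_char_pow (R := F) (p := p) (n := D.b) (x := l) (y := 1)
    rw [hlp, one_pow, sub_self, pow_eq_zero_iff (pow_ne_zero _ (Fact.out : p.Prime).ne_zero), sub_eq_zero] at h5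
    exact h5
  have hzc : isoEnd P9 z c = c := by
    rw [← D.mul_eq, Module.End.mul_apply, hl, hl1, one_smul, hscc]
  obtain ⟨h, hh⟩ := exists_move h2 (c := c) (c' := Pi.single (Sum.inl ()) 1) one_ne_zero hc1
    (by simp [Cfsg.quadFormOdd, Pi.single_apply])
  haveI : (Cfsg.Omega F P9).Normal := inferInstanceAs (commutator _).Normal
  have hmid : ∀ v, isoEnd P9 (h * z * h⁻¹) (isoEnd P9 h v) = isoEnd P9 h (isoEnd P9 z v) := fun v => by
    rw [map_mul, map_mul, Module.End.mul_apply, Module.End.mul_apply, ← Module.End.mul_apply (isoEnd P9 h⁻¹),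
      ← map_mul, inv_mul_cancel, map_one, Module.End.one_apply]
  have hinjh : Function.Injective (isoEnd P9 h) := fun x y e => by
    have := congrArg (isoEnd P9 h⁻¹) e
    rwa [← Module.End.mul_apply, ← Module.End.mul_apply, ← map_mul, inv_mul_cancel, map_one] at this
  obtain ⟨N, hN, hgN⟩ := exists_target_of_fix p h2 (g := h * z * h⁻¹) (Subgroup.Normal.conj_mem inferInstance z hz h)
    (by rw [← hh, hmid, hzc]) (fun w hw => by
      obtain ⟨v, hv⟩ : ∃ v, isoEnd P9 h v = Sum.elim (0 : Unit → F) w :=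
        ⟨isoEnd P9 h⁻¹ (Sum.elim (0 : Unit → F) w), by rw [← Module.End.mul_apply, ← map_mul, mul_inv_cancel, map_one]; rfl⟩
      rw [← hv, hmid] at hw
      have hzv := hinjh hw
      have hsv : D.s v = v := by
        rw [hk]
        clear hk
        induction k with
        | zero => rfl
        | succ k ih => rw [pow_succ', Module.End.mul_apply, ih, hzv]
      obtain ⟨t, rfl⟩ := hC' v hsv
      rw [map_smul, hh] at hv
      have h0 := congrFun hv (Sum.inl ())
      simp at h0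
      funext i
      have h6 := congrFun hv (Sum.inr i)
      rw [h0] at h6
      simpa using h6.symm)
  refine (rh_target p h2 hp2 hab hN).of_dvd ?_
  rw [conj_pow, mul_inv_eq_one, mul_eq_left] at hgN
  exact orderOf_dvd_of_pow_eq_one hgN

end CfsgLib.Classical.OrthNineSpec
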